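import Groth.Agent.GeomUnib.SectionBaseChange
import Groth.Agent.GeomUnib.HyperplaneFibre
import Groth.Agent.GeomUnib.FibreGen
import Groth.Agent.GrpSchField.ConnComp
import Groth.Agent.FibrewiseCrit.GrpRegular
import Groth.Agent.SubgroupWeil.Section
import Groth.Prelude.Def_SGA3x

/-!
The union of the neutral components of the fibres of a group scheme locally of finite type, and the
openness of its projections when the dimensions of the fibres are locally constant.
-/

universe u

open CategoryTheory Limits MonoidalCategory CartesianMonoidalCategory MonObj GrpObj AlgebraicGeometry TopologicalSpace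
open Groth.Agent.FibreDim Groth.Agent.GeomUnib Groth.Agent.GeomUnib.SectionComp

set_option backward.isDefEq.respectTransparency false
set_option linter.style.haveILetI false

noncomputable section

namespace Groth.Agent.NeutralSet

variable {S : Scheme.{u}}

/-- the unit section as a morphism of schemes -/
abbrev e1 (G : Over S) [GrpObj G] : S ⟶ G.left := η[G].left

variable (G : Over S) [GrpObj G]

theorem e1_w : e1 G ≫ G.hom = 𝟙 S := Over.w η[G]

theorem mem_iff {x : G.left} : x ∈ SGA3x.neutralSet G ↔ x ∈ X0 G.hom (e1 G) (G.hom x) := by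
  simp only [SGA3x.neutralSet, Set.mem_iUnion]
  constructor
  · rintro ⟨p, hp⟩
    have h : G.hom x = p := apply_of_mem_X0 (f := G.hom) (g := e1 G) (y := p) hp
    rw [h]
    exact hp
  · intro h
    exact ⟨G.hom x, h⟩

theorem mem_of_mem_X0 {x : G.left} {s : S} (h : x ∈ X0 G.hom (e1 G) s) : x ∈ SGA3x.neutralSet G := by
  rw [mem_iff, apply_of_mem_X0 h]
  exact h

theorem unit_mem (s : S) : e1 G s ∈ SGA3x.neutralSet G := mem_of_mem_X0 G (mem_X0 (e1_w G) s)

/-- the dimension of a group over a field is that of its unit component -/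
theorem dim_le_dim_component {K : Type u} [Field K] (H : Over (Spec (CommRingCat.of K))) [GrpObj H]
    [LocallyOfFiniteType H.hom] :
    topologicalKrullDim H.left ≤ topologicalKrullDim ↥(connectedComponent (GrpSchField.e H)) := by
  rw [FibrewiseCrit.topologicalKrullDim_eq_stalk_unit (G := H), ringKrullDim_stalk_eq_coheight,
    Order.coheight_eq_krullDim_Ici]
  let C := connectedComponent (GrpSchField.e H)
  have hC : ∀ x : Set.Ici (GrpSchField.e H), x.1 ∈ C := fun x =>
    (isPreconnected_singleton (x := x.1)).closure.subset_connectedComponent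
      (specializes_iff_mem_closure.mp x.2) (subset_closure rfl)
  let ψ : Set.Ici (GrpSchField.e H) → IrreducibleCloseds ↥C := fun x =>
    ⟨closure {⟨x.1, hC x⟩}, isIrreducible_singleton.closure, isClosed_closure⟩
  have hle : ∀ x y, x ≤ y ↔ ψ x ≤ ψ y := by
    intro x y
    have h1 : ψ x ≤ ψ y ↔ (⟨y.1, hC y⟩ : C) ⤳ ⟨x.1, hC x⟩ := specializes_iff_closure_subset.symm
    rw [h1, Topology.IsInducing.subtypeVal.specializes_iff.symm]
    exact Iff.rfl
  exact Order.krullDim_le_of_strictMono ψ fun x y h =>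
    lt_of_le_not_ge ((hle x y).1 h.le) fun h' => h.not_ge ((hle y x).2 h')

theorem preimage_X0 (s : S) :
    (G.hom.fiberι s) ⁻¹' X0 G.hom (e1 G) s =
      connectedComponent (GrpSchField.e (Red.bc (S.fromSpecResidueField s) G)) := by
  let H := Red.bc (S.fromSpecResidueField s) G
  have he : G.hom.fiberι s (GrpSchField.e H) = e1 G s := by
    show pullback.fst G.hom (S.fromSpecResidueField s) (η[H].left (IsLocalRing.closedPoint _)) = _
    refine (Scheme.Hom.comp_apply η[H].left (pullback.fst G.hom (S.fromSpecResidueField s)) _).symm.trans ?_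
    refine ((congrArg (fun m : _ ⟶ G.left => m (IsLocalRing.closedPoint (S.residueField s)))
      (SubgroupWeil.one_bc_left (X := G) (S.fromSpecResidueField s))).trans (Scheme.Hom.comp_apply _ _ _)).trans ?_
    exact congrArg η[G].left (Scheme.fromSpecResidueField_apply _ _)
  have h := SectionBC.connectedComponentIn_range (G.hom.fiberι s).isEmbedding (GrpSchField.e H)
  rw [he, G.hom.range_fiberι] at h
  rw [X0, h]
  exact Set.preimage_image_eq _ (G.hom.fiberι s).isEmbedding.injective

theorem geomIrredAt (s : S) : GeomIrredAt G.hom (e1 G) s := by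
  intro K _ _
  have h := GrpSchField.isIrreducible_preimage_unitComp (G := Red.bc (S.fromSpecResidueField s) G)
    (Spec.map (CommRingCat.ofHom (algebraMap (IsLocalRing.ResidueField (S.presheaf.stalk s)) K)))
  rw [← GrpSchField.connectedComponent_eq_unitComp, ← preimage_X0] at h
  exact h

theorem d0_eq [LocallyOfFiniteType G.hom] (s : S) :
    d0 G.hom (e1 G) s = topologicalKrullDim ↥(G.hom.base ⁻¹' {s}) := by
  haveI : LocallyOfFiniteType (Red.bc (S.fromSpecResidueField s) G).hom :=
    inferInstanceAs (LocallyOfFiniteType (pullback.snd G.hom (S.fromSpecResidueField s)))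
  refine le_antisymm (dim_mono (connectedComponentIn_subset _ _)) ?_
  rw [← FibreDimNhds.dim_fibre_eq]
  refine (dim_le_dim_component (Red.bc (S.fromSpecResidueField s) G)).trans ?_
  rw [← preimage_X0, ← dim_image (G.hom.fiberι s).isEmbedding]
  exact dim_mono (Set.image_preimage_subset _ _)

section meet

variable {X Y : Scheme.{u}} {f : X ⟶ Y} {g : Y ⟶ X}

/-- If the dimension of the component of a section is locally constant, an open meeting the component in
a fibre meets it in all nearby fibres. -/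
theorem eventually_meet [LocallyOfFiniteType f] (hg : g ≫ f = 𝟙 Y) (hirr : GeomIrred f g)
    (hc : IsLocallyConstant (fun y : Y => d0 f g y)) (O : X.Opens) {x : X} (hxO : x ∈ O)
    (hx : x ∈ X0 f g (f x)) : ∀ᶠ y in nhds (f x), ∃ z ∈ O, z ∈ X0 f g y := by
  let s := f x
  by_cases he : g s ∈ O
  · filter_upwards [(g ⁻¹ᵁ O).isOpen.mem_nhds he] with y hy
    exact ⟨g y, hy, mem_X0 hg y⟩
  obtain ⟨ξ, hfξ, -, hspec, hd, -⟩ := exists_generic hg hirr s
  have hξO : ξ ∈ O := (hspec x hx).mem_open O.isOpen hxO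
  obtain ⟨Z, j, hj, hr⟩ : ∃ (Z : Scheme.{u}) (j : Z ⟶ X) (_ : IsClosedImmersion j), Set.range j = (O : Set X)ᶜ := by
    let I := Scheme.IdealSheafData.vanishingIdeal (⟨(O : Set X)ᶜ, O.isOpen.isClosed_compl⟩ : Closeds X)
    exact ⟨_, I.subschemeι, inferInstance, by rw [I.range_subschemeι]; rfl⟩
  obtain ⟨z₀, hz₀⟩ : g s ∈ Set.range j := hr.ge he
  obtain ⟨a, ha, ⟨w, hw, hwz, hwn⟩, -⟩ := exists_fibreDimAt_eq (j ≫ f) z₀
  have hfw : f (j w) = s := by
    rw [← Scheme.Hom.comp_apply]
    refine hw.trans ?_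
    rw [Scheme.Hom.comp_apply, hz₀]
    exact section_apply hg s
  have hξw : ξ ⤳ j w :=
    hspec _ (mem_X0_of_specializes hfw (mem_X0 hg s) (hz₀ ▸ hwz.map j.continuous))
  have hne : j w ≠ ξ := fun h => (hr.le ⟨w, rfl⟩) (h.symm ▸ hξO)
  obtain ⟨b, hb, -⟩ := exists_fdim f ξ
  have hab : a + 1 ≤ b := fdim_add_one_le f hξw (hfξ.trans hfw.symm) hne
    (by rw [← fdim_comp_closedImmersion f j w, hwn]) hb
  obtain ⟨O₁, hO₁, hle⟩ := exists_nhds_fibreDimAt_le (j ≫ f) z₀
  obtain ⟨W, hW, hW1⟩ := j.isClosedEmbedding.isInducing.isOpen_iff.mp O₁.isOpen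
  have hzW : g s ∈ W := hz₀ ▸ (hW1.ge hO₁ : z₀ ∈ j ⁻¹' W)
  filter_upwards [((O.isOpen.union hW).preimage g.continuous).mem_nhds (Or.inr hzW : g s ∈ (O : Set X) ∪ W),
    hc.eventually_eq s] with y hy hyd
  by_contra hcon
  push Not at hcon
  have hyO : g y ∉ O := fun h => hcon _ h (mem_X0 hg y)
  obtain ⟨ξy, hfy, hmy, hspy, hdy, -⟩ := exists_generic hg hirr y
  obtain ⟨a', ha'⟩ : ξy ∈ Set.range j := hr.ge fun h => hcon _ h hmy
  obtain ⟨b', hb'⟩ : g y ∈ Set.range j := hr.ge hyO
  have hab' : a' ⤳ b' :=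
    j.isClosedEmbedding.isInducing.specializes_iff.mp (by rw [ha', hb']; exact hspy _ (mem_X0 hg y))
  have hb'O : b' ∈ O₁ := hW1.le (show j b' ∈ W by rw [hb']; exact hy.resolve_left hyO)
  have h1 := (fdim_le_fibreDimAt (j ≫ f) hab').trans ((hle b' hb'O).trans ha.le)
  rw [fdim_comp_closedImmersion f j a', ha', ← hdy, hyd, hd, hb] at h1
  have : b ≤ a := by exact_mod_cast h1
  omega

end meet

variable (T : Over S)

/-- the unit section after base change -/
def eT : T.left ⟶ (G ⊗ T).left := pullback.lift (T.hom ≫ e1 G) (𝟙 _) (by rw [Category.assoc, e1_w, Category.comp_id, Category.id_comp])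

theorem eT_w : eT G T ≫ pullback.snd G.hom T.hom = 𝟙 _ := pullback.lift_snd _ _ _

theorem geomIrred_bc : GeomIrred (pullback.snd G.hom T.hom) (eT G T) := fun y =>
  (SectionBC.gik_iff _ _ y).1 ((SectionBC.gik_iff_of_isPullback (IsPullback.of_hasPullback G.hom T.hom)
    (pullback.lift_fst _ _ _) (eT_w G T) (e1_w G) y).2 ((SectionBC.gik_iff _ _ _).2 (geomIrredAt G _)))

theorem d0_bc [LocallyOfFiniteType G.hom] (y : T.left) :
    d0 (pullback.snd G.hom T.hom) (eT G T) y = topologicalKrullDim ↥(G.hom.base ⁻¹' {T.hom y}) := by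
  refine (fibreDimAt_section_at (eT_w G T) (geomIrred_bc G T y)).symm.trans ?_
  refine ((SectionBC.fibreDimAt_bc G.hom T.hom _).trans ?_).trans (d0_eq G (T.hom y))
  refine Eq.trans (congrArg (FlatMor.fibreDimAt G.hom) ?_) (fibreDimAt_section_at (e1_w G) (geomIrredAt G (T.hom y)))
  exact (Scheme.Hom.comp_apply _ _ y).symm.trans ((congrArg (fun m : _ ⟶ G.left => m y)
    (pullback.lift_fst _ _ _)).trans (Scheme.Hom.comp_apply _ _ _))

variable {G T} in
theorem fst_mem_iff {z : (G ⊗ T).left} :
    (fst G T).left z ∈ SGA3x.neutralSet G ↔ z ∈ X0 (pullback.snd G.hom T.hom) (eT G T) ((snd G T).left z) := by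
  have h := IsPullback.of_hasPullback G.hom T.hom
  have hz : G.hom ((fst G T).left z) = T.hom ((snd G T).left z) := by
    rw [← Scheme.Hom.comp_apply, ← Scheme.Hom.comp_apply]
    exact congrArg (fun m => m z) (pullback.condition (f := G.hom) (g := T.hom))
  rw [mem_iff, hz]
  exact ⟨SectionBC.mem_X0_of_map h (pullback.lift_fst _ _ _) (eT_w G T) (e1_w G) rfl,
    SectionBC.mem_X0_map h (pullback.lift_fst _ _ _) (eT_w G T)⟩

/-- The neutral set is universally open over the base, when the dimensions of the fibres are locally constant. -/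
theorem isOpen_image [LocallyOfFiniteType G.hom] (hdim : IsLocallyConstant (fun s : S => topologicalKrullDim ↥(G.hom.base ⁻¹' {s})))
    {N : Set (G ⊗ T).left} (hN : IsOpen N) :
    IsOpen ((snd G T).left '' (N ∩ (fst G T).left ⁻¹' SGA3x.neutralSet G)) := by
  have hc : IsLocallyConstant (fun y => d0 (pullback.snd G.hom T.hom) (eT G T) y) := by
    simp only [d0_bc]
    exact hdim.comp_continuous T.hom.continuous
  rw [isOpen_iff_mem_nhds]
  rintro _ ⟨z, ⟨hzN, hzW⟩, rfl⟩
  refine Filter.mem_of_superset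
    (eventually_meet (eT_w G T) (geomIrred_bc G T) hc ⟨N, hN⟩ hzN (fst_mem_iff.mp hzW)) ?_
  rintro y ⟨w, hwN, hw⟩
  have hwy : (snd G T).left w = y := apply_of_mem_X0 hw
  exact ⟨w, ⟨hwN, fst_mem_iff.mpr (hwy.symm ▸ hw)⟩, hwy⟩

/-- The neutral set has a generic point in every fibre of every base change. -/
theorem exists_generic (p : T.left) : ∃ γ₀ : (G ⊗ T).left, (snd G T).left γ₀ = p ∧
    (fst G T).left γ₀ ∈ SGA3x.neutralSet G ∧
      ∀ w, (snd G T).left w = p → (fst G T).left w ∈ SGA3x.neutralSet G → γ₀ ⤳ w := by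
  have hirr := isIrreducible_X0_at (geomIrred_bc G T p)
  obtain ⟨c, hc⟩ := QuasiSober.sober hirr.closure isClosed_closure
  have hspec : ∀ w ∈ X0 (pullback.snd G.hom T.hom) (eT G T) p, c ⤳ w := fun w hw =>
    hc.specializes (subset_closure hw)
  have hcp : pullback.snd G.hom T.hom c = p := by
    have h1 : pullback.snd G.hom T.hom c ∈ closure ({p} : Set T.left) := by
      refine closure_mono ?_ (image_closure_subset_closure_image (pullback.snd G.hom T.hom).continuous ⟨c, hc.mem, rfl⟩)
      rintro _ ⟨x, hx, rfl⟩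
      exact apply_of_mem_X0 hx
    have h2 := (hspec _ (mem_X0 (eT_w G T) p)).map (pullback.snd G.hom T.hom).continuous
    rw [show pullback.snd G.hom T.hom (eT G T p) = p from section_apply (eT_w G T) p] at h2
    exact (h2.antisymm (specializes_iff_mem_closure.2 h1)).eq
  refine ⟨c, hcp, fst_mem_iff.mpr ?_, fun w hw hwW => hspec w (hw ▸ fst_mem_iff.mp hwW)⟩
  rw [show (snd G T).left c = p from hcp]
  exact mem_X0_of_closure hcp hc.mem

end Groth.Agent.NeutralSet
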