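import Groth.Agent.NeutralSet.Basic
import Groth.Agent.HomogSep.Main

/-!
The translates of an open subscheme by the neutral components.
-/

universe u

open CategoryTheory Limits MonoidalCategory CartesianMonoidalCategory MonObj GrpObj AlgebraicGeometry TopologicalSpace

set_option backward.isDefEq.respectTransparency false
set_option linter.style.haveILetI false

noncomputable section

namespace Groth.Agent.NeutralSet

variable {S : Scheme.{u}} {G X : Over S} [GrpObj G] (a : AlgGrp.Action G X)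

/-- `g⁻¹ · x` -/
abbrev invAct : G ⊗ X ⟶ X := lift (fst G X)⁻¹ (snd G X) ≫ a.act

theorem image_act (W : Set G.left) (U : Set X.left) :
    a.act.left '' {z : ↥(G ⊗ X).left | (fst G X).left z ∈ W ∧ (snd G X).left z ∈ U} =
      (snd G X).left '' ((invAct a).left ⁻¹' U ∩ (fst G X).left ⁻¹' W) := by
  let e := GrpSchField.actShear a
  have e1 : ∀ z, (fst G X).left (e.hom.left z) = (fst G X).left z := fun z => by
    rw [← Scheme.Hom.comp_apply, ← Over.comp_left, show e.hom ≫ fst G X = fst G X from lift_fst _ _]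
  have e2 : ∀ z, (snd G X).left (e.hom.left z) = a.act.left z := fun z => by
    rw [← Scheme.Hom.comp_apply, ← Over.comp_left, show e.hom ≫ snd G X = a.act from lift_snd _ _]
  have e3 : ∀ z, (invAct a).left (e.hom.left z) = (snd G X).left z := fun z => by
    have h : e.hom ≫ invAct a = snd G X := by
      have h0 := congrArg (· ≫ snd G X) e.hom_inv_id
      simpa [e, GrpSchField.actShear] using h0
    rw [← Scheme.Hom.comp_apply, ← Over.comp_left, h]
  ext x
  constructor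
  · rintro ⟨z, ⟨hzW, hzU⟩, rfl⟩
    exact ⟨e.hom.left z, ⟨by rw [Set.mem_preimage, e3]; exact hzU, by rw [Set.mem_preimage, e1]; exact hzW⟩, e2 z⟩
  · rintro ⟨w, ⟨hwU, hwW⟩, rfl⟩
    obtain ⟨z, rfl⟩ : ∃ z, e.hom.left z = w := by
      refine ⟨e.inv.left w, ?_⟩
      rw [← Scheme.Hom.comp_apply, ← Over.comp_left, e.inv_hom_id]
      rfl
    exact ⟨z, ⟨by rw [← e1]; exact hwW, by rw [← e3]; exact hwU⟩, (e2 z).symm⟩

/-- a pair in the closure of the diagonal which can be moved into a separated open is diagonal -/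
theorem mem_diagonal (W : Set G.left)
    (hW : ∀ (T : Over S) (N : Set (G ⊗ T).left), IsOpen N → IsOpen ((snd G T).left '' (N ∩ (fst G T).left ⁻¹' W)))
    (U : X.left.Opens) (hU : IsSeparated (U.ι ≫ X.hom)) {z : (G ⊗ (X ⊗ X)).left} (hzW : (fst G (X ⊗ X)).left z ∈ W)
    (hz1 : ((G ◁ fst X X) ≫ invAct a).left z ∈ U) (hz2 : ((G ◁ snd X X) ≫ invAct a).left z ∈ U)
    (hzd : (snd G (X ⊗ X)).left z ∈ closure (Set.range (pullback.diagonal X.hom))) :
    (snd G (X ⊗ X)).left z ∈ Set.range (pullback.diagonal X.hom) := by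
  let A : Over S := G ⊗ (X ⊗ X)
  let q : A.left ⟶ pullback X.hom X.hom := (snd G (X ⊗ X)).left
  let act₁ : A ⟶ X := (G ◁ fst X X) ≫ invAct a
  let act₂ : A ⟶ X := (G ◁ snd X X) ≫ invAct a
  let Z : A.left.Opens := act₁.left ⁻¹ᵁ U ⊓ act₂.left ⁻¹ᵁ U
  have hzZ : z ∈ Z := ⟨hz1, hz2⟩
  let r₁ : (Z : Scheme.{u}) ⟶ U := IsOpenImmersion.lift U.ι (Z.ι ≫ act₁.left) (by
    rw [U.range_ι]; rintro _ ⟨u, rfl⟩; rw [Scheme.Hom.comp_apply]; exact u.2.1)
  let r₂ : (Z : Scheme.{u}) ⟶ U := IsOpenImmersion.lift U.ι (Z.ι ≫ act₂.left) (by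
    rw [U.range_ι]; rintro _ ⟨u, rfl⟩; rw [Scheme.Hom.comp_apply]; exact u.2.2)
  let Ψ : (Z : Scheme.{u}) ⟶ pullback (U.ι ≫ X.hom) (U.ι ≫ X.hom) := pullback.lift r₁ r₂ (by
    simp only [r₁, r₂, IsOpenImmersion.lift_fac_assoc, Category.assoc, Over.w act₁, Over.w act₂])
  haveI := hU
  have hcl : IsClosed (Set.range (pullback.diagonal (U.ι ≫ X.hom))) :=
    (pullback.diagonal (U.ι ≫ X.hom)).isClosedEmbedding.isClosed_range
  have hcoord : ∀ u : Z, ((Z : Scheme.{u}).fromSpecResidueField u ≫ Z.ι) ≫ act₁.left =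
        ((Z : Scheme.{u}).fromSpecResidueField u ≫ Z.ι) ≫ act₂.left ↔
      Ψ u ∈ Set.range (pullback.diagonal (U.ι ≫ X.hom)) := by
    intro u
    have e1 : ((Z : Scheme.{u}).fromSpecResidueField u ≫ Ψ) ≫ pullback.fst _ _ ≫ U.ι =
        ((Z : Scheme.{u}).fromSpecResidueField u ≫ Z.ι) ≫ act₁.left := by simp [Ψ, r₁]
    have e2 : ((Z : Scheme.{u}).fromSpecResidueField u ≫ Ψ) ≫ pullback.snd _ _ ≫ U.ι =
        ((Z : Scheme.{u}).fromSpecResidueField u ≫ Z.ι) ≫ act₂.left := by simp [Ψ, r₂]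
    have e : ((Z : Scheme.{u}).fromSpecResidueField u ≫ Ψ) (IsLocalRing.closedPoint _) = Ψ u :=
      (Scheme.Hom.comp_apply _ _ _).trans (congrArg Ψ ((Z : Scheme.{u}).fromSpecResidueField_apply u _))
    rw [← e1, ← e2]
    constructor
    · intro h
      have := HomogSep.mem_diagonal_of_fst_eq_snd (U.ι ≫ X.hom) ((Z : Scheme.{u}).fromSpecResidueField u ≫ Ψ)
        (by rw [← cancel_mono U.ι]; simpa using h) (IsLocalRing.closedPoint _)
      exact e ▸ this
    · intro h
      have := HomogSep.fst_eq_snd_of_mem_diagonal (U.ι ≫ X.hom) (K := (Z : Scheme.{u}).residueField u)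
        ((Z : Scheme.{u}).fromSpecResidueField u ≫ Ψ)
        (e.symm ▸ h)
      rw [← Category.assoc, this, Category.assoc]
  have hxy : ∀ u : Z, q u.1 ∈ Set.range (pullback.diagonal X.hom) ↔
      ((Z : Scheme.{u}).fromSpecResidueField u ≫ Z.ι) ≫ act₁.left =
        ((Z : Scheme.{u}).fromSpecResidueField u ≫ Z.ι) ≫ act₂.left := by
    intro u
    let Tu : Over S := Over.mk ((Z : Scheme.{u}).fromSpecResidueField u ≫ Z.ι ≫ A.hom)
    let ju : Tu ⟶ A := Over.homMk ((Z : Scheme.{u}).fromSpecResidueField u ≫ Z.ι) (Category.assoc _ _ _)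
    have hq : (ju.left ≫ q) (IsLocalRing.closedPoint _) = q u.1 := by
      show ((((Z : Scheme.{u}).fromSpecResidueField u ≫ Z.ι) ≫ q)) _ = _
      rw [Scheme.Hom.comp_apply, Scheme.Hom.comp_apply]
      exact congrArg (fun w => q (Z.ι w)) ((Z : Scheme.{u}).fromSpecResidueField_apply u _)
    let gu : Tu ⟶ G := (ju ≫ fst G (X ⊗ X))
    have ha1 : ju ≫ act₁ = lift gu⁻¹ (ju ≫ snd G (X ⊗ X) ≫ fst X X) ≫ a.act := by
      simp [act₁, gu, comp_lift_assoc, comp_inv]
    have ha2 : ju ≫ act₂ = lift gu⁻¹ (ju ≫ snd G (X ⊗ X) ≫ snd X X) ≫ a.act := by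
      simp [act₂, gu, comp_lift_assoc, comp_inv]
    constructor
    · intro h
      have h1 := HomogSep.fst_eq_snd_of_mem_diagonal X.hom (K := (Z : Scheme.{u}).residueField u) (ju.left ≫ q) (hq ▸ h)
      have h2 : ju ≫ snd G (X ⊗ X) ≫ fst X X = ju ≫ snd G (X ⊗ X) ≫ snd X X :=
        Over.OverMorphism.ext ((Category.assoc _ _ _).symm.trans (h1.trans (Category.assoc _ _ _)))
      show (ju ≫ act₁).left = (ju ≫ act₂).left
      rw [ha1, ha2, h2]
    · intro h
      have h1 : ju ≫ act₁ = ju ≫ act₂ := Over.OverMorphism.ext h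
      rw [ha1, ha2] at h1
      have h2 := congrArg (fun v => lift gu v ≫ a.act) h1
      simp only [← GrpSchField.lift_act_mul, mul_inv_cancel, GrpSchField.lift_act_one] at h2
      rw [← hq]
      exact HomogSep.mem_diagonal_of_fst_eq_snd X.hom (ju.left ≫ q)
        ((Category.assoc _ _ _).trans ((congrArg Over.Hom.left h2).trans (Category.assoc _ _ _).symm)) _
  have hclos : (⟨z, hzZ⟩ : Z) ∈ closure {u : Z | q u.1 ∈ Set.range (pullback.diagonal X.hom)} := by
    rw [mem_closure_iff]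
    intro N hN hzN
    have hO := hW (X ⊗ X) _ (Z.isOpen.isOpenMap_subtype_val _ hN)
    obtain ⟨_, ⟨_, ⟨⟨u, hu, rfl⟩, -⟩, rfl⟩, hd⟩ := mem_closure_iff.mp hzd _ hO ⟨z, ⟨⟨⟨z, hzZ⟩, hzN, rfl⟩, hzW⟩, rfl⟩
    exact ⟨u, hu, hd⟩
  have := (hcl.preimage Ψ.continuous).closure_subset_iff.mpr
    (fun u hu => (hcoord u).mp ((hxy u).mp hu)) hclos
  exact (hxy ⟨z, hzZ⟩).mpr ((hcoord _).mpr this)

omit [GrpObj G] in
theorem exists_over (T : Over S) (π : T ⟶ X) (p : T.left) {v : (G ⊗ X).left} (hv : (snd G X).left v = π.left p) :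
    ∃ w, (G ◁ π).left w = v ∧ (snd G T).left w = p := by
  have hsq : IsPullback (G ◁ π).left (snd G T).left (snd G X).left π.left := by
    refine IsPullback.of_right (h₁₂ := pullback.fst G.hom X.hom) (h₂₂ := X.hom) (v₁₃ := G.hom) ?_ ?_
      (IsPullback.of_hasPullback G.hom X.hom)
    · rw [show (G ◁ π).left ≫ pullback.fst G.hom X.hom = pullback.fst G.hom T.hom from
        congrArg Over.Hom.left (whiskerLeft_fst G π), Over.w π]
      exact IsPullback.of_hasPullback G.hom T.hom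
    · exact congrArg Over.Hom.left (whiskerLeft_snd G π)
  exact Scheme.exists_preimage_of_isPullback hsq v p hv

variable [LocallyOfFiniteType G.hom]

theorem main (hdim : IsLocallyConstant (fun s : S => topologicalKrullDim ↥(G.hom.base ⁻¹' {s})))
    (U : X.left.Opens) (hU : IsSeparated (U.ι ≫ X.hom)) :
    ∃ V : X.left.Opens, (V : Set X.left) =
        a.act.left '' {z : ↥(G ⊗ X).left | (fst G X).left z ∈ SGA3x.neutralSet G ∧ (snd G X).left z ∈ U} ∧
      IsSeparated (V.ι ≫ X.hom) := by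
  refine ⟨⟨_, isOpen_image G X hdim ((U.isOpen).preimage (invAct a).left.continuous)⟩,
    (image_act a (SGA3x.neutralSet G) (U : Set X.left)).symm, ?_⟩
  set V : X.left.Opens := ⟨_, isOpen_image G X hdim ((U.isOpen).preimage (invAct a).left.continuous)⟩
  let m : pullback (V.ι ≫ X.hom) (V.ι ≫ X.hom) ⟶ pullback X.hom X.hom :=
    pullback.map _ _ _ _ V.ι V.ι (𝟙 _) (by simp) (by simp)
  have hm : pullback.diagonal (V.ι ≫ X.hom) ≫ m = V.ι ≫ pullback.diagonal X.hom := by
    apply pullback.hom_ext <;> simp [m]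
  refine ⟨IsClosedImmersion.of_isPreimmersion _ (isClosed_of_closure_subset fun p hp => ?_)⟩
  have hq : m p ∈ closure (Set.range (pullback.diagonal X.hom)) := by
    refine map_mem_closure m.continuous hp ?_
    rintro _ ⟨v, rfl⟩
    exact ⟨V.ι v, by rw [← Scheme.Hom.comp_apply, ← hm]; rfl⟩
  obtain ⟨γ₀, hγp, hγW, hγ⟩ := exists_generic G (X ⊗ X) (m p)
  have key : ∀ π : X ⊗ X ⟶ X, π.left (m p) ∈ V → ((G ◁ π) ≫ invAct a).left γ₀ ∈ U := by
    rintro π ⟨w, ⟨hwU, hwW⟩, hw⟩
    obtain ⟨w', hw', hw'p⟩ := exists_over (X ⊗ X) π (m p) hw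
    have hfst : (fst G (X ⊗ X)).left w' = (fst G X).left w := by
      rw [← hw', ← Scheme.Hom.comp_apply, ← Over.comp_left, whiskerLeft_fst]
    refine ((hγ w' hw'p (hfst ▸ hwW)).map ((G ◁ π) ≫ invAct a).left.continuous).mem_open U.isOpen ?_
    show ((G ◁ π) ≫ invAct a).left w' ∈ U
    rw [Over.comp_left, Scheme.Hom.comp_apply, hw']
    exact hwU
  have hmem1 : (fst X X).left (m p) ∈ V := by
    have e := congrArg (fun t : _ ⟶ X.left => t p)
      (show m ≫ pullback.fst X.hom X.hom = pullback.fst _ _ ≫ V.ι from pullback.lift_fst _ _ _)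
    simp only at e
    have e' : (fst X X).left (m p) = V.ι (pullback.fst (V.ι ≫ X.hom) (V.ι ≫ X.hom) p) :=
      ((Scheme.Hom.comp_apply m (pullback.fst X.hom X.hom) p).symm.trans e).trans (Scheme.Hom.comp_apply _ _ p)
    rw [e']
    exact (pullback.fst (V.ι ≫ X.hom) (V.ι ≫ X.hom) p).2
  have hmem2 : (snd X X).left (m p) ∈ V := by
    have e := congrArg (fun t : _ ⟶ X.left => t p)
      (show m ≫ pullback.snd X.hom X.hom = pullback.snd _ _ ≫ V.ι from pullback.lift_snd _ _ _)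
    simp only at e
    have e' : (snd X X).left (m p) = V.ι (pullback.snd (V.ι ≫ X.hom) (V.ι ≫ X.hom) p) :=
      ((Scheme.Hom.comp_apply m (pullback.snd X.hom X.hom) p).symm.trans e).trans (Scheme.Hom.comp_apply _ _ p)
    rw [e']
    exact (pullback.snd (V.ι ≫ X.hom) (V.ι ≫ X.hom) p).2
  obtain ⟨x, hx⟩ : m p ∈ Set.range (pullback.diagonal X.hom) := by
    have h := mem_diagonal a (SGA3x.neutralSet G) (fun T _ hN => isOpen_image G T hdim hN) U hU hγW
      (key _ hmem1) (key _ hmem2) (by rw [hγp]; exact hq)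
    rwa [hγp] at h
  have hxV : x ∈ V := by
    have h : (fst X X).left (pullback.diagonal X.hom x) = x := by
      show pullback.fst X.hom X.hom (pullback.diagonal X.hom x) = x
      rw [← Scheme.Hom.comp_apply, pullback.diagonal_fst]; rfl
    rw [← h, hx]; exact hmem1
  refine ⟨⟨x, hxV⟩, m.injective ?_⟩
  rw [← Scheme.Hom.comp_apply, hm, Scheme.Hom.comp_apply]
  exact hx

end Groth.Agent.NeutralSet
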