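import Groth.Agent.NeutralSet.Act
import Groth.Prelude.Def_NonAbH2

/-!
Coincidences of two sections with values in the neutral set form a closed subscheme.
-/

universe u

open CategoryTheory Limits MonoidalCategory CartesianMonoidalCategory MonObj GrpObj AlgebraicGeometry TopologicalSpace

set_option backward.isDefEq.respectTransparency false
set_option linter.style.haveILetI false

noncomputable section

namespace Groth.Agent.NeutralSet

variable {S : Scheme.{u}}

/-- the diagonal is closed inside a separated open -/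
theorem mem_diagonal_of_opens {X : Scheme.{u}} (f : X ⟶ S) (V : X.Opens) (hV : IsSeparated (V.ι ≫ f))
    {q : ↑(pullback f f)} (hq : q ∈ closure (Set.range (pullback.diagonal f)))
    (h1 : pullback.fst f f q ∈ V) (h2 : pullback.snd f f q ∈ V) : q ∈ Set.range (pullback.diagonal f) := by
  let m : pullback (V.ι ≫ f) (V.ι ≫ f) ⟶ pullback f f :=
    pullback.map _ _ _ _ V.ι V.ι (𝟙 _) (by simp) (by simp)
  have hm : pullback.diagonal (V.ι ≫ f) ≫ m = V.ι ≫ pullback.diagonal f := by
    apply pullback.hom_ext <;> simp [m]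
  obtain ⟨p, rfl⟩ : q ∈ Set.range m := by
    rw [Scheme.Pullback.range_map, V.range_ι]
    exact ⟨h1, h2⟩
  have hpre : m ⁻¹' Set.range (pullback.diagonal f) ⊆ Set.range (pullback.diagonal (V.ι ≫ f)) := by
    rintro p' ⟨x, hx⟩
    have hxV : x ∈ V := by
      have h : pullback.fst f f (m p') = x := by
        rw [← hx, ← Scheme.Hom.comp_apply, pullback.diagonal_fst]; rfl
      rw [← h, ← Scheme.Hom.comp_apply,
        show m ≫ pullback.fst f f = pullback.fst _ _ ≫ V.ι from pullback.lift_fst _ _ _, Scheme.Hom.comp_apply]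
      exact (pullback.fst (V.ι ≫ f) (V.ι ≫ f) p').2
    refine ⟨⟨x, hxV⟩, m.isOpenEmbedding.injective ?_⟩
    rw [← Scheme.Hom.comp_apply, hm, Scheme.Hom.comp_apply]
    exact hx
  haveI := hV
  have hcl : IsClosed (Set.range (pullback.diagonal (V.ι ≫ f))) :=
    (pullback.diagonal (V.ι ≫ f)).isClosedEmbedding.isClosed_range
  have hp : p ∈ closure (m ⁻¹' Set.range (pullback.diagonal f)) := by
    rw [← m.isOpenEmbedding.isOpenMap.preimage_closure_eq_closure_preimage m.continuous]
    exact hq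
  obtain ⟨v, rfl⟩ := hcl.closure_subset_iff.mpr hpre hp
  exact ⟨V.ι v, by rw [← Scheme.Hom.comp_apply, ← hm]; rfl⟩

theorem isClosedImmersion_coincide (G : Over S) [GrpObj G] [LocallyOfFiniteType G.hom]
    (hdim : IsLocallyConstant (fun s : S => topologicalKrullDim ↥(G.hom.base ⁻¹' {s})))
    (σ τ : 𝟙_ (Over S) ⟶ G) (hσ : Set.range σ.left.base ⊆ SGA3x.neutralSet G)
    (hτ : Set.range τ.left.base ⊆ SGA3x.neutralSet G) :
    IsClosedImmersion (pullback.fst (lift σ τ) (lift (𝟙 G) (𝟙 G))).left := by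
  have hd : (lift (𝟙 G) (𝟙 G)).left = pullback.diagonal G.hom := by
    apply pullback.hom_ext
    · rw [pullback.diagonal_fst]
      exact congrArg Over.Hom.left (lift_fst (𝟙 G) (𝟙 G))
    · rw [pullback.diagonal_snd]
      exact congrArg Over.Hom.left (lift_snd (𝟙 G) (𝟙 G))
  have sq := (IsPullback.of_hasPullback (lift σ τ) (lift (𝟙 G) (𝟙 G))).map (Over.forget S)
  haveI : IsImmersion (lift (𝟙 G) (𝟙 G)).left := by rw [hd]; infer_instance
  haveI : IsImmersion (pullback.fst (lift σ τ) (lift (𝟙 G) (𝟙 G))).left :=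
    MorphismProperty.of_isPullback (P := @IsImmersion) sq.flip
      (show IsImmersion (lift (𝟙 G) (𝟙 G)).left by assumption)
  refine IsClosedImmersion.of_isPreimmersion _ (isClosed_of_closure_subset fun p hp => ?_)
  let q : S ⟶ pullback G.hom G.hom := (lift σ τ).left
  have hrange : ∀ p : S, p ∈ Set.range (pullback.fst (lift σ τ) (lift (𝟙 G) (𝟙 G))).left ↔
      q p ∈ Set.range (pullback.diagonal G.hom) := by
    intro p
    constructor
    · rintro ⟨w, rfl⟩
      refine ⟨(pullback.snd (lift σ τ) (lift (𝟙 G) (𝟙 G))).left w, ?_⟩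
      rw [← hd]
      exact ((Scheme.Hom.comp_apply _ _ w).symm.trans (congrArg (fun m => m w) sq.w.symm)).trans
        (Scheme.Hom.comp_apply _ _ w)
    · rintro ⟨x, hx⟩
      obtain ⟨w, hw, -⟩ := Scheme.exists_preimage_of_isPullback sq p x (by
        show q p = (lift (𝟙 G) (𝟙 G)).left x
        rw [hd]; exact hx.symm)
      exact ⟨w, hw⟩
  have hq : q p ∈ closure (Set.range (pullback.diagonal G.hom)) :=
    map_mem_closure q.continuous hp fun w hw => (hrange w).mp hw
  obtain ⟨_, ⟨U, hU, rfl⟩, hU1, -⟩ := G.left.isBasis_affineOpens.exists_subset_of_mem_open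
    (Set.mem_univ (η[G].left p)) isOpen_univ
  have hUsep : IsSeparated (Scheme.Opens.ι U ≫ G.hom) := by
    haveI : IsAffine (U : Scheme.{u}) := hU
    exact IsSeparated.of_comp (Scheme.Opens.ι U ≫ G.hom) (terminal.from S)
  obtain ⟨V, hV, hVsep⟩ := main (NonAbH1.trivialAction G) hdim U hUsep
  have key : ∀ ρ : 𝟙_ (Over S) ⟶ G, Set.range ρ.left ⊆ SGA3x.neutralSet G → ρ.left p ∈ V := by
    intro ρ hρ
    rw [← SetLike.mem_coe, hV]
    refine ⟨(lift ρ η[G]).left p, ⟨?_, ?_⟩, ?_⟩
    · rw [← Scheme.Hom.comp_apply, ← Over.comp_left, lift_fst]; exact hρ ⟨p, rfl⟩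
    · rw [← Scheme.Hom.comp_apply, ← Over.comp_left, lift_snd]; exact hU1
    · rw [← Scheme.Hom.comp_apply, ← Over.comp_left,
        show lift ρ η[G] ≫ (NonAbH1.trivialAction G).act = ρ from ?_]
      show lift ρ η[G] ≫ μ[G] = ρ
      rw [← Hom.mul_def, show η[G] = (1 : 𝟙_ (Over S) ⟶ G) by rw [Hom.one_def, toUnit_unit, Category.id_comp],
        _root_.mul_one]
  refine (hrange p).mpr (mem_diagonal_of_opens G.hom V hVsep hq ?_ ?_)
  · have h : q ≫ pullback.fst G.hom G.hom = σ.left := congrArg Over.Hom.left (lift_fst σ τ)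
    rw [← Scheme.Hom.comp_apply, h]; exact key σ hσ
  · have h : q ≫ pullback.snd G.hom G.hom = τ.left := congrArg Over.Hom.left (lift_snd σ τ)
    rw [← Scheme.Hom.comp_apply, h]; exact key τ hτ

end Groth.Agent.NeutralSet
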