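import Groth.Agent.NeutralSet.Open
import Groth.Agent.HomogSep.Qs
import Groth.Agent.S1326
import Groth.Prelude.Def_ProCons

/-!
Constructibility of the neutral set.
-/

universe u

open CategoryTheory Limits MonoidalCategory CartesianMonoidalCategory MonObj GrpObj AlgebraicGeometry TopologicalSpace
open Groth.Agent.GeomUnib Groth.Agent.GeomUnib.SectionComp Topology

set_option backward.isDefEq.respectTransparency false
set_option linter.style.haveILetI false

noncomputable section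

namespace Groth.Agent.NeutralSet

variable {S : Scheme.{u}} (G : Over S) [GrpObj G]

theorem exists_compact_open_nhds {X : Scheme.{u}} {C : Set X} (hC : IsCompact C) :
    ∃ U : X.Opens, IsCompact (U : Set X) ∧ C ⊆ U := by
  obtain ⟨t, ht⟩ := hC.elim_finite_subcover (fun A : X.affineOpens => (A.1 : Set X)) (fun A => A.1.isOpen)
    (fun x _ => by
      obtain ⟨_, ⟨A, hA, rfl⟩, hx, -⟩ := X.isBasis_affineOpens.exists_subset_of_mem_open (Set.mem_univ x) isOpen_univ
      exact Set.mem_iUnion.mpr ⟨⟨A, hA⟩, hx⟩)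
  refine ⟨⟨⋃ A ∈ t, (A.1 : Set X), isOpen_biUnion fun A _ => A.1.isOpen⟩, ?_, ht⟩
  exact t.isCompact_biUnion fun A _ => A.2.isCompact

/-- a quasi-compact open contains the neutral set over a quasi-compact quasi-separated base -/
theorem exists_compact_open [CompactSpace S] [QuasiSeparatedSpace S] :
    ∃ U : G.left.Opens, IsCompact (U : Set G.left) ∧ SGA3x.neutralSet G ⊆ U := by
  obtain ⟨U, hU, hsub⟩ := exists_compact_open_nhds (isCompact_range η[G].left.continuous (X := S))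
  let UU : Over S := Over.mk (U.ι ≫ G.hom)
  let j : UU ⟶ G := Over.homMk U.ι
  haveI : CompactSpace UU.left := isCompact_iff_compactSpace.mp hU
  haveI : QuasiCompact UU.hom := quasiCompact_of_compactSpace _
  haveI : CompactSpace (UU ⊗ UU).left := QuasiCompact.compactSpace_of_compactSpace (pullback.fst UU.hom UU.hom)
  obtain ⟨U', hU', hsub'⟩ := exists_compact_open_nhds
    (isCompact_range ((j ⊗ₘ j) ≫ μ[G]).left.continuous)
  refine ⟨U', hU', fun x hx => hsub' ?_⟩
  obtain ⟨z, ⟨hz1, hz2⟩, rfl⟩ := subset_mul G U (fun s => hsub ⟨s, rfl⟩) hx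
  obtain ⟨w, rfl⟩ : z ∈ Set.range (j ⊗ₘ j).left := by
    rw [range_tensorHom', show Set.range j.left = U from U.range_ι]; exact ⟨hz1, hz2⟩
  exact ⟨w, Scheme.Hom.comp_apply _ _ _⟩

theorem isLocallyConstructible_inter (U : G.left.Opens) (h1 : ∀ s, e1 G s ∈ U)
    [LocallyOfFinitePresentation G.hom] [QuasiCompact (U.ι ≫ G.hom)] [QuasiSeparated (U.ι ≫ G.hom)] :
    IsLocallyConstructible (U.ι ⁻¹' SGA3x.neutralSet G) := by
  let g' : S ⟶ U := IsOpenImmersion.lift U.ι (e1 G) (by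
    rw [U.range_ι]; rintro _ ⟨s, rfl⟩; exact h1 s)
  have w : (U.ι ≫ G.hom) ≫ 𝟙 S = U.ι ≫ G.hom := Category.comp_id _
  have hs : g' ≫ U.ι = 𝟙 S ≫ e1 G := by rw [IsOpenImmersion.lift_fac, Category.id_comp]
  have hg' : g' ≫ U.ι ≫ G.hom = 𝟙 S := by rw [IsOpenImmersion.lift_fac_assoc, e1_w]
  have h : MoreMor.sectionComponents (U.ι ≫ G.hom) g' = U.ι ⁻¹' SGA3x.neutralSet G := by
    ext z
    show z ∈ X0 (U.ι ≫ G.hom) g' ((U.ι ≫ G.hom) z) ↔ _
    rw [SectionBC.mem_X0_restrict_iff w hs (e1_w G) hg' (geomIrredAt G _), Set.mem_preimage, mem_iff,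
      ← Scheme.Hom.comp_apply]
    exact ⟨fun h => h.2, fun h => ⟨rfl, h⟩⟩
  exact h ▸ S1326.result (U.ι ≫ G.hom) g' hg'

theorem isConstructible_qs [CompactSpace S] [QuasiSeparatedSpace S] [LocallyOfFinitePresentation G.hom]
    [QuasiSeparated G.hom] : IsConstructible (SGA3x.neutralSet G) := by
  obtain ⟨U, hU, hsub⟩ := exists_compact_open G
  haveI : QuasiSeparatedSpace G.left := quasiSeparatedSpace_of_quasiSeparated G.hom
  haveI : CompactSpace (U : Scheme.{u}) := isCompact_iff_compactSpace.mp hU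
  haveI : QuasiSeparatedSpace (U : Scheme.{u}) :=
    QuasiSeparatedSpace.of_isOpenEmbedding U.ι.isOpenEmbedding
  haveI : QuasiCompact (U.ι ≫ G.hom) := quasiCompact_of_compactSpace _
  have h := (isLocallyConstructible_inter G U fun s => hsub (unit_mem G s)).isConstructible
  have h' := h.image_of_isOpenEmbedding U.ι.isOpenEmbedding
    (by rw [U.range_ι]; exact hU.isRetrocompact U.isOpen)
  rwa [Set.image_preimage_eq_of_subset (by rw [U.range_ι]; exact hsub)] at h'

/-- the comparison with the base change to an open -/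
theorem exists_open_bc (V : S.Opens) :
    ∃ j : (G.hom ⁻¹ᵁ V : Scheme.{u}) ⟶ (Red.bc V.ι G).left, IsOpenImmersion j ∧
      j ≫ pullback.fst G.hom V.ι = (G.hom ⁻¹ᵁ V).ι ∧
      j ⁻¹' SGA3x.neutralSet (Red.bc V.ι G) = (G.hom ⁻¹ᵁ V).ι ⁻¹' SGA3x.neutralSet G := by
  let j : (G.hom ⁻¹ᵁ V : Scheme.{u}) ⟶ (Red.bc V.ι G).left :=
    pullback.lift (G.hom ⁻¹ᵁ V).ι (G.hom ∣_ V) (morphismRestrict_ι _ _).symm
  have hj : j ≫ pullback.fst G.hom V.ι = (G.hom ⁻¹ᵁ V).ι := pullback.lift_fst _ _ _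
  haveI : IsOpenImmersion (j ≫ pullback.fst G.hom V.ι) := by rw [hj]; infer_instance
  refine ⟨j, IsOpenImmersion.of_comp j (pullback.fst G.hom V.ι), hj, ?_⟩
  rw [bc_eq, ← Set.preimage_comp]
  ext z
  simp only [Set.mem_preimage, Function.comp_apply]
  rw [show pullback.fst G.hom V.ι (j z) = (G.hom ⁻¹ᵁ V).ι z from
    (Scheme.Hom.comp_apply _ _ z).symm.trans (congrArg (fun m : _ ⟶ G.left => m z) hj)]

theorem isLocallyConstructible_qs [LocallyOfFinitePresentation G.hom] [QuasiSeparated G.hom] :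
    IsLocallyConstructible (SGA3x.neutralSet G) := by
  refine IsLocallyConstructible.of_isOpenCover (U := fun V : S.affineOpens => G.hom ⁻¹ᵁ V.1)
    (IsOpenCover.comap (iSup_affineOpens_eq_top S) ⟨_, G.hom.continuous⟩) fun V => ?_
  obtain ⟨j, hj, -, hpre⟩ := exists_open_bc G V.1
  haveI : IsAffine (V.1 : Scheme.{u}) := V.2
  haveI : LocallyOfFinitePresentation (Red.bc V.1.ι G).hom := MorphismProperty.pullback_snd G.hom V.1.ι ‹_›
  haveI : QuasiSeparated (Red.bc V.1.ι G).hom := MorphismProperty.pullback_snd G.hom V.1.ι ‹_›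
  have h := (isConstructible_qs (Red.bc V.1.ι G)).isLocallyConstructible.preimage_of_isOpenEmbedding j.isOpenEmbedding
  rw [hpre] at h
  exact h

theorem isIndConstructible [LocallyOfFinitePresentation G.hom] :
    ProCons.IsIndConstructible (SGA3x.neutralSet G) := by
  intro x
  let s := G.hom x
  -- a chart of the base over which the unit section lies in an affine open
  obtain ⟨V₀, hV₀, hsV₀, -⟩ := exists_isAffineOpen_mem_and_subset (U := (⊤ : S.Opens)) (x := s) trivial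
  have hes : G.hom (e1 G s) = s := section_apply (e1_w G) s
  obtain ⟨U₀, hU₀, heU₀, hU₀V₀⟩ := exists_isAffineOpen_mem_and_subset (U := G.hom ⁻¹ᵁ V₀) (x := e1 G s)
    (show G.hom (e1 G s) ∈ V₀ by rw [hes]; exact hsV₀)
  obtain ⟨a, haU, hsa⟩ := hV₀.exists_basicOpen_le (V := e1 G ⁻¹ᵁ U₀) ⟨s, heU₀⟩ hsV₀
  let V : S.Opens := S.basicOpen a
  have hV : IsAffineOpen V := hV₀.basicOpen a
  haveI : IsAffine (V : Scheme.{u}) := hV
  let G' := Red.bc V.ι G
  haveI : LocallyOfFinitePresentation G'.hom := MorphismProperty.pullback_snd G.hom V.ι ‹_›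
  let c : G'.left ⟶ G.left := pullback.fst G.hom V.ι
  have hcr : Set.range c = G.hom ⁻¹' V := by
    show Set.range (pullback.fst G.hom V.ι) = _
    rw [Scheme.Pullback.range_fst, V.range_ι]
  let U₁ : G.left.Opens := U₀ ⊓ G.hom ⁻¹ᵁ V
  have hU₁ : IsAffineOpen U₁ := by
    have h : U₁ = G.left.basicOpen (G.hom.appLE V₀ U₀ hU₀V₀ a) := (Scheme.basicOpen_appLE G.hom U₀ V₀ hU₀V₀ a).symm
    rw [h]
    exact hU₀.basicOpen _
  let U : G'.left.Opens := c ⁻¹ᵁ U₁
  haveI hUaff : IsAffine (U : Scheme.{u}) := hU₁.preimage_of_isOpenImmersion c (by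
    intro z hz
    show z ∈ Set.range c
    rw [hcr]; exact hz.2)
  have hUe : ∀ t, e1 G' t ∈ U := by
    intro t
    have e : c (e1 G' t) = e1 G (V.ι t) := ((Scheme.Hom.comp_apply _ _ t).symm.trans
      (congrArg (fun m : _ ⟶ G.left => m t) (SubgroupWeil.one_bc_left (X := G) V.ι))).trans (Scheme.Hom.comp_apply _ _ t)
    show c (e1 G' t) ∈ U₁
    rw [e]
    refine ⟨haU t.2, ?_⟩
    show G.hom (e1 G t.1) ∈ V
    rw [show G.hom (e1 G t.1) = t.1 from section_apply (e1_w G) t.1]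
    exact t.2
  haveI : QuasiCompact (U.ι ≫ G'.hom) := quasiCompact_of_compactSpace _
  have hT₀ : IsConstructible (U.ι ⁻¹' SGA3x.neutralSet G') :=
    (isLocallyConstructible_inter G' U hUe).isConstructible
  let UU : Over (V : Scheme.{u}) := Over.mk (U.ι ≫ G'.hom)
  let j : UU ⟶ G' := Over.homMk U.ι
  let φ := ((j ⊗ₘ j) ≫ μ[G']).left
  haveI : LocallyOfFinitePresentation UU.hom := inferInstanceAs (LocallyOfFinitePresentation (U.ι ≫ G'.hom))
  haveI : LocallyOfFinitePresentation (φ ≫ G'.hom) := by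
    rw [Over.w ((j ⊗ₘ j) ≫ μ[G'])]
    show LocallyOfFinitePresentation (pullback.fst UU.hom UU.hom ≫ UU.hom)
    infer_instance
  haveI : LocallyOfFinitePresentation φ := FibrewiseCrit.locallyOfFinitePresentation_of_comp φ G'.hom inferInstance inferInstance
  let T : Set (UU ⊗ UU).left := (fst UU UU).left ⁻¹' (U.ι ⁻¹' SGA3x.neutralSet G') ∩
    (snd UU UU).left ⁻¹' (U.ι ⁻¹' SGA3x.neutralSet G')
  have hT : IsConstructible T :=
    ((fst UU UU).left.isConstructible_preimage hT₀).inter ((snd UU UU).left.isConstructible_preimage hT₀)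
  -- the affine chart around `x`
  obtain ⟨A, hA, hxA, hAV⟩ := exists_isAffineOpen_mem_and_subset (U := G.hom ⁻¹ᵁ V) (x := x) hsa
  let A' : G'.left.Opens := c ⁻¹ᵁ A
  haveI : IsAffine (A' : Scheme.{u}) := hA.preimage_of_isOpenImmersion c (by
    intro z hz
    show z ∈ Set.range c
    rw [hcr]; exact hAV hz)
  let r : (A : Scheme.{u}) ⟶ A' := IsOpenImmersion.lift A'.ι (IsOpenImmersion.lift c A.ι (by
      rw [A.range_ι, hcr]; exact hAV)) (by
    rw [A'.range_ι]
    rintro _ ⟨v, rfl⟩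
    show c (IsOpenImmersion.lift c A.ι _ v) ∈ A
    rw [← Scheme.Hom.comp_apply, IsOpenImmersion.lift_fac]
    exact v.2)
  have hr : r ≫ A'.ι ≫ c = A.ι := by simp [r]
  haveI : IsOpenImmersion (r ≫ (A'.ι ≫ c)) := by rw [hr]; infer_instance
  haveI : IsOpenImmersion r := IsOpenImmersion.of_comp r (A'.ι ≫ c)
  have hrW : ∀ v, A.ι v ∈ SGA3x.neutralSet G ↔ A'.ι (r v) ∈ SGA3x.neutralSet G' := fun v => by
    rw [bc_eq, Set.mem_preimage, show pullback.fst G.hom V.ι (A'.ι (r v)) = A.ι v from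
      ((Scheme.Hom.comp_apply (r ≫ A'.ι) c v).trans (congrArg c (Scheme.Hom.comp_apply _ _ v))).symm.trans
        (congrArg (fun m : _ ⟶ G.left => m v) ((Category.assoc _ _ _).trans hr))]
  refine ⟨A, A.isOpen, hxA,
    {T' | IsLocallyConstructible T' ∧ T' ⊆ Subtype.val ⁻¹' SGA3x.neutralSet G}, fun T' h => h.1,
    Set.Subset.antisymm (fun v hv => ?_) (Set.sUnion_subset fun T' h => h.2)⟩
  let y := A'.ι (r v)
  have hy : y ∈ SGA3x.neutralSet G' := (hrW v).mp hv
  haveI : LocallyOfFiniteType (Red.bc ((V : Scheme.{u}).fromSpecResidueField (G'.hom y)) G').hom :=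
    inferInstanceAs (LocallyOfFiniteType (pullback.snd G'.hom ((V : Scheme.{u}).fromSpecResidueField (G'.hom y))))
  let H := Red.bc ((V : Scheme.{u}).fromSpecResidueField (G'.hom y)) G'
  let U' : H.left.Opens := (G'.hom.fiberι (G'.hom y)) ⁻¹ᵁ U ⊓ ⟨GrpSchField.unitComp H, HomogSep.isOpen_unitComp⟩
  obtain ⟨z, hz, ⟨a₁, ha₁, ha₁'⟩, ⟨a₂, ha₂, ha₂'⟩⟩ := exists_mul_fibre G' hy U'
    ⟨by show G'.hom.fiberι _ _ ∈ U; rw [fiberι_e]; exact hUe _, GrpSchField.e_mem_unitComp⟩
  have hcomp : ∀ b ∈ U', G'.hom.fiberι (G'.hom y) b ∈ (U : Set G'.left) ∩ SGA3x.neutralSet G' := fun b hb => by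
    refine ⟨hb.1, mem_of_mem_X0 G' (s := G'.hom y) ?_⟩
    rw [← Set.mem_preimage, preimage_X0, GrpSchField.connectedComponent_eq_unitComp]
    exact hb.2
  have h1 := ha₁' ▸ hcomp _ ha₁
  have h2 := ha₂' ▸ hcomp _ ha₂
  obtain ⟨w, rfl⟩ : z ∈ Set.range (j ⊗ₘ j).left := by
    rw [range_tensorHom', show Set.range j.left = U from U.range_ι]; exact ⟨h1.1, h2.1⟩
  have hwT : w ∈ T := by
    constructor
    · show U.ι ((fst UU UU).left w) ∈ SGA3x.neutralSet G'
      have := h1.2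
      rw [← Scheme.Hom.comp_apply, ← Over.comp_left, tensorHom_fst, Over.comp_left, Scheme.Hom.comp_apply] at this
      exact this
    · show U.ι ((snd UU UU).left w) ∈ SGA3x.neutralSet G'
      have := h2.2
      rw [← Scheme.Hom.comp_apply, ← Over.comp_left, tensorHom_snd, Over.comp_left, Scheme.Hom.comp_apply] at this
      exact this
  have hφw : φ w = y := (Scheme.Hom.comp_apply _ _ w).trans hz
  obtain ⟨B, hB, hwB, hBA⟩ := exists_isAffineOpen_mem_and_subset (U := φ ⁻¹ᵁ A') (x := w)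
    (by show φ w ∈ A'; rw [hφw]; exact (r v).2)
  haveI : IsAffine (B : Scheme.{u}) := hB
  let ψ : (B : Scheme.{u}) ⟶ A' := φ.resLE A' B hBA
  have hψ : ψ ≫ A'.ι = B.ι ≫ φ := Scheme.Hom.resLE_comp_ι φ hBA
  haveI : LocallyOfFinitePresentation (ψ ≫ A'.ι) := by rw [hψ]; infer_instance
  haveI : LocallyOfFinitePresentation ψ := FibrewiseCrit.locallyOfFinitePresentation_of_comp ψ A'.ι inferInstance inferInstance
  haveI : QuasiCompact ψ := quasiCompact_of_compactSpace _
  have himg : IsConstructible (ψ '' (B.ι ⁻¹' T)) :=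
    ψ.isConstructible_image (B.ι.isConstructible_preimage hT)
  refine ⟨r ⁻¹' (ψ '' (B.ι ⁻¹' T)), ⟨himg.isLocallyConstructible.preimage_of_isOpenEmbedding r.isOpenEmbedding, ?_⟩,
    ⟨⟨w, hwB⟩, hwT, A'.ι.isOpenEmbedding.injective (by
      rw [← Scheme.Hom.comp_apply, hψ, Scheme.Hom.comp_apply]; exact hφw)⟩⟩
  rintro v' ⟨b, ⟨hb1, hb2⟩, hb⟩
  show A.ι v' ∈ SGA3x.neutralSet G
  rw [hrW, ← hb, ← Scheme.Hom.comp_apply, hψ, Scheme.Hom.comp_apply]
  show ((j ⊗ₘ j) ≫ μ[G']).left (B.ι b) ∈ SGA3x.neutralSet G'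
  rw [Over.comp_left, Scheme.Hom.comp_apply]
  refine mul_mem G' ?_ ?_
  · rw [← Scheme.Hom.comp_apply, ← Over.comp_left, tensorHom_fst, Over.comp_left, Scheme.Hom.comp_apply]
    exact hb1
  · rw [← Scheme.Hom.comp_apply, ← Over.comp_left, tensorHom_snd, Over.comp_left, Scheme.Hom.comp_apply]
    exact hb2

end Groth.Agent.NeutralSet
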