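import Groth.Agent.NeutralSet.Constr
import Groth.Agent.S1325

/-!
Over a dense open of a noetherian base the neutral set is an open subgroup of finite type.
-/

universe u

open CategoryTheory Limits MonoidalCategory CartesianMonoidalCategory MonObj GrpObj AlgebraicGeometry TopologicalSpace
open Groth.Agent.GeomUnib Groth.Agent.GeomUnib.SectionComp Topology

set_option backward.isDefEq.respectTransparency false
set_option linter.style.haveILetI false

noncomputable section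

namespace Groth.Agent.NeutralSet

theorem isConnected_fibre {S : Scheme.{u}} {G0 G : Over S} [GrpObj G] (i : G0 ⟶ G) [IsOpenImmersion i.left]
    (hr : Set.range i.left = SGA3x.neutralSet G) (s : S) : _root_.IsConnected (G0.hom ⁻¹' {s}) := by
  have him : i.left '' (G0.hom ⁻¹' {s}) = X0 G.hom (e1 G) s := by
    ext x
    constructor
    · rintro ⟨p, hp, rfl⟩
      have : i.left p ∈ SGA3x.neutralSet G := hr.le ⟨p, rfl⟩
      rw [mem_iff] at this
      rwa [show G.hom (i.left p) = s by rw [← Scheme.Hom.comp_apply, Over.w i]; exact hp] at this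
    · intro hx
      obtain ⟨p, rfl⟩ : x ∈ Set.range i.left := hr.ge (mem_of_mem_X0 G hx)
      refine ⟨p, ?_, rfl⟩
      show G0.hom p = s
      rw [← Over.w i, Scheme.Hom.comp_apply]
      exact apply_of_mem_X0 (f := G.hom) hx
  have hc : _root_.IsConnected (i.left '' (G0.hom ⁻¹' {s})) :=
    him ▸ ⟨⟨_, mem_X0 (e1_w G) s⟩, isPreconnected_connectedComponentIn⟩
  exact ⟨Set.image_nonempty.mp hc.1, i.left.isEmbedding.isInducing.isPreconnected_image.mp hc.2⟩

theorem generic {S : Scheme.{u}} [IsLocallyNoetherian S] [Nonempty ↥S] (G : Over S) [GrpObj G]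
    [LocallyOfFiniteType G.hom] :
    ∃ U : S.Opens, (U : Set ↥S).Nonempty ∧
      ∃ (H : Over (U : Scheme.{u})) (_ : GrpObj H) (i : H ⟶ Red.bc U.ι G), IsMonHom i ∧ IsOpenImmersion i.left ∧
        QuasiCompact H.hom ∧ LocallyOfFiniteType H.hom ∧
        (∀ u : ↥(U : Scheme.{u}), _root_.IsConnected (H.hom.base ⁻¹' {u})) ∧
        Set.range (i.left ≫ pullback.fst G.hom U.ι).base = SGA3x.neutralSet G ∩ G.hom.base ⁻¹' (U : Set ↥S) := by
  -- an affine noetherian open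
  obtain ⟨Ω, hΩ, hne, -⟩ := exists_isAffineOpen_mem_and_subset (U := (⊤ : S.Opens)) (x := Classical.arbitrary S) trivial
  haveI : IsAffine (Ω : Scheme.{u}) := hΩ
  haveI : IsNoetherian (Ω : Scheme.{u}) := {}
  let G' := Red.bc Ω.ι G
  haveI : LocallyOfFiniteType G'.hom := inferInstanceAs (LocallyOfFiniteType (pullback.snd G.hom Ω.ι))
  obtain ⟨U₁, hU₁, hsub₁⟩ := exists_compact_open G'
  haveI : CompactSpace (U₁ : Scheme.{u}) := isCompact_iff_compactSpace.mp hU₁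
  haveI : QuasiCompact (U₁.ι ≫ G'.hom) := quasiCompact_of_compactSpace _
  let g₁ : (Ω : Scheme.{u}) ⟶ U₁ := IsOpenImmersion.lift U₁.ι (e1 G') (by
    rw [U₁.range_ι]; rintro _ ⟨t, rfl⟩; exact hsub₁ (unit_mem G' t))
  have w : (U₁.ι ≫ G'.hom) ≫ 𝟙 _ = U₁.ι ≫ G'.hom := Category.comp_id _
  have hs : g₁ ≫ U₁.ι = 𝟙 _ ≫ e1 G' := by rw [IsOpenImmersion.lift_fac, Category.id_comp]
  have hg₁ : g₁ ≫ U₁.ι ≫ G'.hom = 𝟙 _ := by rw [IsOpenImmersion.lift_fac_assoc, e1_w]
  -- a dense open piece of an irreducible component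
  obtain ⟨Z, hZ⟩ : ∃ Z, Z ∈ irreducibleComponents (Ω : Scheme.{u}) :=
    ⟨_, irreducibleComponent_mem_irreducibleComponents (⟨Classical.arbitrary S, hne⟩ : (Ω : Scheme.{u}))⟩
  have hfin : (irreducibleComponents (Ω : Scheme.{u})).Finite := NoetherianSpace.finite_irreducibleComponents
  obtain ⟨N, hN, hNne, hNZ⟩ : ∃ N : Set (Ω : Scheme.{u}), IsOpen N ∧ N ≠ ∅ ∧ N ⊆ Z := by
    have hcl := closure_sUnion_irreducibleComponents_sdiff_singleton hfin Z hZ
    refine ⟨(⋃₀ (irreducibleComponents (Ω : Scheme.{u}) \ {Z}))ᶜ, ?_, fun h => ?_, subset_closure.trans hcl.le⟩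
    · exact (Set.Finite.isClosed_biUnion (hfin.subset Set.sdiff_subset)
        fun W hW => isClosed_of_mem_irreducibleComponents W hW.1).isOpen_compl |> (by rw [Set.sUnion_eq_biUnion]; exact ·)
    · rw [h, closure_empty] at hcl
      exact hZ.1.1.ne_empty hcl.symm
  obtain ⟨y, hy⟩ := QuasiSober.sober hZ.1 (isClosed_of_mem_irreducibleComponents Z hZ)
  obtain ⟨V, hVy, hyV, hVo, hVc⟩ := S1325.result (U₁.ι ≫ G'.hom) g₁ hg₁ y
  obtain ⟨V', hV', hVV'⟩ := isOpen_induced_iff.mp hVo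
  have hNy : N ⊆ closure {y} := hy.def.symm ▸ hNZ
  have hyN : y ∈ N := by
    obtain ⟨z, hz⟩ := Set.nonempty_iff_ne_empty.mpr hNne
    exact (specializes_iff_mem_closure.mpr (hNy hz)).mem_open hN hz
  let U₀ : (Ω : Scheme.{u}).Opens := ⟨N ∩ V', hN.inter hV'⟩
  have hUV : (U₀ : Set (Ω : Scheme.{u})) ⊆ V := fun z hz =>
    (Set.ext_iff.mp hVV' ⟨z, hNy hz.1⟩).mp hz.2
  have hyU : y ∈ U₀ := ⟨hyN, (Set.ext_iff.mp hVV' ⟨y, subset_closure rfl⟩).mpr hyV⟩
  -- the neutral set is open over it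
  have hopen' : IsOpen (SGA3x.neutralSet G' ∩ G'.hom ⁻¹' U₀) := by
    obtain ⟨O, hO, hOV⟩ := isOpen_induced_iff.mp hVc.2
    have h : SGA3x.neutralSet G' ∩ G'.hom ⁻¹' U₀ = U₁.ι '' (O ∩ (U₁.ι ≫ G'.hom) ⁻¹' U₀) := by
      ext x
      constructor
      · rintro ⟨hxW, hxU⟩
        let z : (U₁ : Scheme.{u}) := ⟨x, hsub₁ hxW⟩
        refine ⟨z, ⟨(Set.ext_iff.mp hOV ⟨z, hUV hxU⟩).mpr ?_, hxU⟩, rfl⟩
        show z ∈ X0 (U₁.ι ≫ G'.hom) g₁ ((U₁.ι ≫ G'.hom) z)
        rw [SectionBC.mem_X0_restrict_iff w hs (e1_w G') hg₁ (geomIrredAt G' _)]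
        exact ⟨rfl, (mem_iff G').mp hxW⟩
      · rintro ⟨z, ⟨hzO, hzU⟩, rfl⟩
        refine ⟨(mem_iff G').mpr ?_, hzU⟩
        have h := (Set.ext_iff.mp hOV ⟨z, hUV hzU⟩).mp hzO
        have h' : z ∈ X0 (U₁.ι ≫ G'.hom) g₁ ((U₁.ι ≫ G'.hom) z) := h
        rw [SectionBC.mem_X0_restrict_iff w hs (e1_w G') hg₁ (geomIrredAt G' _)] at h'
        exact h'.2
    rw [h]
    exact U₁.ι.isOpenEmbedding.isOpenMap _ (hO.inter ((U₁.ι ≫ G'.hom).continuous.isOpen_preimage _ U₀.isOpen))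
  let U : S.Opens := Ω.ι ''ᵁ U₀
  let c : (Red.bc U.ι G).left ⟶ G.left := pullback.fst G.hom U.ι
  have hopen : IsOpen (SGA3x.neutralSet (Red.bc U.ι G)) := by
    rw [bc_eq]
    have hW : IsOpen (SGA3x.neutralSet G ∩ G.hom ⁻¹' (U : Set S)) := by
      have h : SGA3x.neutralSet G ∩ G.hom ⁻¹' (U : Set S) =
          pullback.fst G.hom Ω.ι '' (SGA3x.neutralSet G' ∩ G'.hom ⁻¹' U₀) := by
        ext x
        rw [bc_eq]
        constructor
        · rintro ⟨hxW, t, ht, htx⟩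
          obtain ⟨z, hz1, hz2⟩ := Scheme.Pullback.exists_preimage_pullback (f := G.hom) (g := Ω.ι) x t htx.symm
          exact ⟨z, ⟨show pullback.fst G.hom Ω.ι z ∈ _ by rw [hz1]; exact hxW,
            show pullback.snd G.hom Ω.ι z ∈ U₀ by rw [hz2]; exact ht⟩, hz1⟩
        · rintro ⟨z, ⟨hz1, hz2⟩, rfl⟩
          refine ⟨hz1, pullback.snd G.hom Ω.ι z, hz2, ?_⟩
          exact ((Scheme.Hom.comp_apply _ _ z).symm.trans
            (congrArg (fun m : _ ⟶ S => m z) (pullback.condition (f := G.hom) (g := Ω.ι)).symm)).trans (Scheme.Hom.comp_apply _ _ z)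
      rw [h]
      exact (pullback.fst G.hom Ω.ι).isOpenEmbedding.isOpenMap _ hopen'
    have h : c ⁻¹' SGA3x.neutralSet G = c ⁻¹' (SGA3x.neutralSet G ∩ G.hom ⁻¹' (U : Set S)) := by
      ext z
      refine ⟨fun h => ⟨h, ?_⟩, fun h => h.1⟩
      have hz : c z ∈ Set.range c := ⟨z, rfl⟩
      rw [show Set.range c = Set.range (pullback.fst G.hom U.ι) from rfl, Scheme.Pullback.range_fst, U.range_ι] at hz
      exact hz
    show IsOpen (c ⁻¹' SGA3x.neutralSet G)
    rw [h]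
    exact c.continuous.isOpen_preimage _ hW
  obtain ⟨H, I, i, hi, hoi, hr, hqc⟩ := exists_subgroup (Red.bc U.ι G) hopen
  haveI := hoi
  haveI : LocallyOfFiniteType (Red.bc U.ι G).hom := inferInstanceAs (LocallyOfFiniteType (pullback.snd G.hom U.ι))
  have hH : LocallyOfFiniteType H.hom := by rw [← Over.w i]; infer_instance
  refine ⟨U, ⟨_, y, hyU, rfl⟩, H, I, i, hi, hoi, hqc hH, hH, fun t => isConnected_fibre i hr t, ?_⟩
  rw [Scheme.Hom.comp_base, TopCat.coe_comp, Set.range_comp, hr, bc_eq]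
  refine Set.image_preimage_eq_inter_range.trans ?_
  exact congrArg (SGA3x.neutralSet G ∩ ·)
    ((Scheme.Pullback.range_fst (f := G.hom) (g := U.ι)).trans (congrArg (G.hom.base ⁻¹' ·) U.range_ι))

end Groth.Agent.NeutralSet
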