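import Groth.Agent.NeutralSet.Open
import Groth.Agent.HomogSep.Qs
import Groth.Agent.GrpSchField.Translate

/-!
The neutral set under homomorphisms; flatness of homomorphisms.
-/

universe u

open CategoryTheory Limits MonoidalCategory CartesianMonoidalCategory MonObj GrpObj AlgebraicGeometry TopologicalSpace
open Groth.Agent.GeomUnib Groth.Agent.GeomUnib.SectionComp

set_option backward.isDefEq.respectTransparency false
set_option linter.style.haveILetI false

noncomputable section

namespace Groth.Agent.NeutralSet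

variable {S : Scheme.{u}} {G H : Over S} [GrpObj G] [GrpObj H] (u : G ⟶ H) [IsMonHom u]

theorem image_subset : u.left '' SGA3x.neutralSet G ⊆ SGA3x.neutralSet H := by
  have hf : ∀ y, H.hom (u.left y) = G.hom y := fun y => by rw [← Scheme.Hom.comp_apply, Over.w u]
  have hone : ∀ s, u.left (e1 G s) = e1 H s := fun s => by
    rw [← Scheme.Hom.comp_apply]
    show (η[G] ≫ u).left s = _
    rw [IsMonHom.one_hom u]
    rfl
  rintro _ ⟨y, hy, rfl⟩
  rw [mem_iff] at hy
  refine mem_of_mem_X0 H ((isPreconnected_connectedComponentIn.image _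
    u.left.continuous.continuousOn).subset_connectedComponentIn
      ⟨_, mem_X0 (e1_w G) (G.hom y), hone _⟩ ?_ ⟨y, hy, rfl⟩)
  rintro _ ⟨w, hw, rfl⟩
  exact (hf w).trans (apply_of_mem_X0 (f := G.hom) hw)

variable [LocallyOfFinitePresentation G.hom] [LocallyOfFinitePresentation H.hom]

theorem image_eq_of_flat [Flat u.left] : u.left '' SGA3x.neutralSet G = SGA3x.neutralSet H := by
  refine Set.Subset.antisymm (image_subset u) fun y hy => ?_
  let s := H.hom y
  let v := S.fromSpecResidueField s
  let uₛ : Red.bc v G ⟶ Red.bc v H := (Over.pullback v).map u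
  have sq := GrpSchField.isPullback_fibreHom u s
  haveI : LocallyOfFinitePresentation (u.left ≫ H.hom) := by rw [Over.w u]; infer_instance
  haveI : LocallyOfFinitePresentation u.left :=
    FibrewiseCrit.locallyOfFinitePresentation_of_comp u.left H.hom inferInstance inferInstance
  haveI : Flat uₛ.left := MorphismProperty.of_isPullback (P := @Flat) sq.flip ‹Flat u.left›
  haveI : LocallyOfFinitePresentation uₛ.left :=
    MorphismProperty.of_isPullback (P := @LocallyOfFinitePresentation) sq.flip ‹LocallyOfFinitePresentation u.left›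
  haveI : LocallyOfFiniteType (Red.bc v G).hom := inferInstanceAs (LocallyOfFiniteType (pullback.snd G.hom v))
  haveI : IsMonHom uₛ := inferInstanceAs (IsMonHom ((Over.pullback v).map u))
  let O : (Red.bc v G).left.Opens := ⟨GrpSchField.unitComp (Red.bc v G), HomogSep.isOpen_unitComp⟩
  let O' : (Red.bc v H).left.Opens := ⟨uₛ.left '' (O : Set _), uₛ.left.isOpenMap _ O.isOpen⟩
  have he : GrpSchField.e (Red.bc v H) ∈ O' := by
    refine ⟨GrpSchField.e (Red.bc v G), GrpSchField.e_mem_unitComp, ?_⟩
    rw [← Scheme.Hom.comp_apply]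
    show (η[Red.bc v G] ≫ uₛ).left _ = _
    rw [IsMonHom.one_hom uₛ]
    rfl
  obtain ⟨y', hy'⟩ : y ∈ Set.range (H.hom.fiberι s) := (H.hom.range_fiberι s).ge rfl
  have hyc : y' ∈ GrpSchField.unitComp (Red.bc v H) := by
    rw [← GrpSchField.connectedComponent_eq_unitComp, ← preimage_X0, Set.mem_preimage, hy']
    exact (mem_iff H).mp hy
  obtain ⟨p, ⟨hp1, hp2⟩, hp⟩ := GrpSchField.unitComp_subset_mulSet O' he hyc
  let j : Over.mk (O.ι ≫ (Red.bc v G).hom) ⟶ Red.bc v G := Over.homMk O.ι
  have hr : Set.range (j ≫ uₛ).left = uₛ.left '' (O : Set _) := by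
    rw [Over.comp_left, Scheme.Hom.comp_base, TopCat.coe_comp, Set.range_comp]
    exact congrArg (uₛ.left '' ·) O.range_ι
  obtain ⟨w, hw⟩ : p ∈ Set.range ((j ≫ uₛ) ⊗ₘ (j ≫ uₛ)).left := by
    rw [range_tensorHom', hr]
    exact ⟨hp1, hp2⟩
  rw [← tensorHom_comp_tensorHom, Over.comp_left, Scheme.Hom.comp_apply] at hw
  refine ⟨pullback.fst G.hom v (μ[Red.bc v G].left ((j ⊗ₘ j).left w)), ?_, ?_⟩
  · show μ[Red.bc v G].left ((j ⊗ₘ j).left w) ∈ (pullback.fst G.hom v) ⁻¹' SGA3x.neutralSet G
    rw [← bc_eq]
    have hOW : ∀ b : (O : Scheme.{u}), O.ι b ∈ SGA3x.neutralSet (Red.bc v G) := fun b => by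
      rw [bc_eq]
      refine mem_of_mem_X0 G (s := s) ?_
      rw [← Set.mem_preimage, show (pullback.fst G.hom v : _ ⟶ G.left) ⁻¹' X0 G.hom (e1 G) s = _ from preimage_X0 G s,
        GrpSchField.connectedComponent_eq_unitComp]
      exact b.2
    refine mul_mem _ ?_ ?_
    · rw [← Scheme.Hom.comp_apply, ← Over.comp_left, tensorHom_fst, Over.comp_left, Scheme.Hom.comp_apply]
      exact hOW _
    · rw [← Scheme.Hom.comp_apply, ← Over.comp_left, tensorHom_snd, Over.comp_left, Scheme.Hom.comp_apply]
      exact hOW _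
  · have e1' : uₛ.left (μ[Red.bc v G].left ((j ⊗ₘ j).left w)) = y' := by
      rw [← Scheme.Hom.comp_apply, ← Over.comp_left, IsMonHom.mul_hom uₛ, Over.comp_left, Scheme.Hom.comp_apply, hw, hp]
    rw [← hy', ← e1']
    exact ((Scheme.Hom.comp_apply _ _ _).symm.trans (congrArg (fun m : _ ⟶ H.left => m (μ[Red.bc v G].left ((j ⊗ₘ j).left w))) sq.w.symm)).trans (Scheme.Hom.comp_apply _ _ _)

theorem flat_of_image_eq [Flat G.hom] (hred : ∀ s : S, IsReduced (H.hom.fiber s))
    (h : u.left '' SGA3x.neutralSet G = SGA3x.neutralSet H) : Flat u.left := by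
  refine (Flat.iff_flat_stalkMap _).mpr fun x => ?_
  refine (GrpSchField.flat_stalkMap_of_flat_fibre u ?_).2
  let s := G.hom x
  let v := S.fromSpecResidueField s
  let uₛ : Red.bc v G ⟶ Red.bc v H := (Over.pullback v).map u
  haveI : IsMonHom uₛ := inferInstanceAs (IsMonHom ((Over.pullback v).map u))
  haveI : IsReduced (Red.bc v H).left := hred s
  haveI : LocallyOfFiniteType (Red.bc v H).hom := inferInstanceAs (LocallyOfFiniteType (pullback.snd H.hom v))
  haveI : Flat (Red.bc v G).hom := inferInstanceAs (Flat (pullback.snd G.hom v))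
  let C := irreducibleComponent (GrpSchField.e (Red.bc v H))
  let c := (isIrreducible_irreducibleComponent (x := GrpSchField.e (Red.bc v H))).genericPoint
  have hgen : IsGenericPoint c C := by
    have h := (isIrreducible_irreducibleComponent (x := GrpSchField.e (Red.bc v H))).isGenericPoint_genericPoint_closure
    rwa [isClosed_irreducibleComponent.closure_eq] at h
  have hc : IsField ((Red.bc v H).left.presheaf.stalk c) := isField_stalk_of_closure_mem_irreducibleComponents _ _ (by
    rw [hgen.def]; exact irreducibleComponent_mem_irreducibleComponents _)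
  have hcW : H.hom.fiberι s c ∈ SGA3x.neutralSet H := by
    refine mem_of_mem_X0 H (s := s) ?_
    rw [← Set.mem_preimage, preimage_X0]
    exact isIrreducible_irreducibleComponent.isPreirreducible.isPreconnected.subset_connectedComponent mem_irreducibleComponent hgen.mem
  obtain ⟨g, hg, hgc⟩ := h.ge hcW
  have sq := GrpSchField.isPullback_fibreHom u s
  obtain ⟨a, ha, -⟩ := Scheme.exists_preimage_of_isPullback sq c g hgc.symm
  have hfield : IsField ((Red.bc v H).left.presheaf.stalk (uₛ.left a)) := by
    rw [show uₛ.left a = c from ha]; exact hc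
  have hflat : (uₛ.left.stalkMap a).hom.Flat := by
    let := hfield.toField
    let := (uₛ.left.stalkMap a).hom.toAlgebra
    exact RingHom.flat_algebraMap_iff.mpr inferInstance
  refine (Flat.iff_flat_stalkMap _).mpr fun b => GrpSchField.flat_stalkMap_of_same_fibre uₛ hflat ?_
  exact Subsingleton.elim (α := Spec (S.residueField s)) _ _

end Groth.Agent.NeutralSet
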