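import Groth.Agent.NeutralSet.Basic
import Groth.Agent.HomogSep.Main
import Groth.Agent.GrpdClosed.Sub
import Groth.Agent.GrpSchField.Orbit

/-!
Homogeneous spaces over a field, with no finiteness: unique generic point above each point.
-/

universe u

open CategoryTheory Limits MonoidalCategory CartesianMonoidalCategory MonObj GrpObj AlgebraicGeometry TopologicalSpace

set_option backward.isDefEq.respectTransparency false
set_option linter.style.haveILetI false

noncomputable section

namespace Groth.Agent.Homog

open GrpSchField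

/-- a point with no proper generization -/
def Maxl {α : Type*} [TopologicalSpace α] (z : α) : Prop := ∀ w, w ⤳ z → w = z

/-- at most one maximal point above `x` -/
def Uniq {α : Type*} [TopologicalSpace α] (x : α) : Prop :=
  ∀ a b, Maxl a → Maxl b → a ⤳ x → b ⤳ x → a = b

theorem exists_maxl {X : Scheme.{u}} (x : X) : ∃ m, Maxl m ∧ m ⤳ x := by
  obtain ⟨c, hc, h⟩ := exists_max_gen x
  exact ⟨c, fun w hw => (hw.antisymm (h w hw)).eq, hc⟩

theorem maxl_map {α β : Type*} [TopologicalSpace α] [TopologicalSpace β] {f : α → β} (hf : GeneralizingMap f)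
    (hc : Continuous f) {a : α} (ha : Maxl a) : Maxl (f a) := fun w hw => by
  obtain ⟨w', hw', rfl⟩ := hf hw
  rw [ha w' hw']

theorem maxl_homeomorph {α β : Type*} [TopologicalSpace α] [TopologicalSpace β] (e : α ≃ₜ β) {a : α} (ha : Maxl a) :
    Maxl (e a) := fun w hw => by
  have h := hw.map e.symm.continuous
  rw [e.symm_apply_apply] at h
  rw [← ha _ h, e.apply_symm_apply]

theorem uniq_homeomorph {α β : Type*} [TopologicalSpace α] [TopologicalSpace β] (e : α ≃ₜ β) {x : α} (hx : Uniq x) :
    Uniq (e x) := fun a b ha hb hax hbx => by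
  have h := hx _ _ (maxl_homeomorph e.symm ha) (maxl_homeomorph e.symm hb)
    (by simpa using hax.map e.symm.continuous) (by simpa using hbx.map e.symm.continuous)
  simpa using h

theorem uniq_down {A : Scheme.{u}} {β : Type*} [TopologicalSpace β] (π : A → β) (hg : GeneralizingMap π)
    (hc : Continuous π) {a : A} (ha : Uniq a) : Uniq (π a) := by
  intro p q hp hq hpa hqa
  obtain ⟨p', hp', rfl⟩ := hg hpa
  obtain ⟨q', hq', rfl⟩ := hg hqa
  obtain ⟨m, hm, hmp⟩ := exists_maxl p'
  obtain ⟨n, hn, hnq⟩ := exists_maxl q'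
  have e := ha m n hm hn (hmp.trans hp') (hnq.trans hq')
  rw [← hp _ (hmp.map hc), ← hq _ (hnq.map hc), e]

/-- upward along a generalizing map whose fibre over the maximal point is irreducible -/
theorem uniq_up {A : Scheme.{u}} {β : Type*} [TopologicalSpace β] (π : A → β) (hg : GeneralizingMap π)
    (hc : Continuous π) {a : A} (hb : Uniq (π a)) (hirr : ∀ c, Maxl c → IsIrreducible (π ⁻¹' {c})) : Uniq a := by
  intro m n hm hn hma hna
  have e := hb _ _ (maxl_map hg hc hm) (maxl_map hg hc hn) (hma.map hc) (hna.map hc)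
  have h := hirr _ (maxl_map hg hc hm)
  obtain ⟨z, hz⟩ := QuasiSober.sober h.closure isClosed_closure
  have h1 := hm z (hz.specializes (subset_closure rfl))
  have h2 := hn z (hz.specializes (subset_closure e.symm))
  exact h1.symm.trans h2

section field

variable {k : Type u} [Field k] {G X : Over (Spec (CommRingCat.of k))} [GrpObj G] (a : AlgGrp.Action G X)

theorem generalizing_fst (A B : Over (Spec (CommRingCat.of k))) : GeneralizingMap (fst A B).left :=
  Flat.generalizingMap (fst A B).left

/-- translation of `X ⊗ T` by a `T`-point of the group -/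
def tau {T : Over (Spec (CommRingCat.of k))} (g : T ⟶ G) : X ⊗ T ≅ X ⊗ T where
  hom := lift (lift (snd X T ≫ g) (fst X T) ≫ a.act) (snd X T)
  inv := lift (lift (snd X T ≫ g)⁻¹ (fst X T) ≫ a.act) (snd X T)
  hom_inv_id := by
    apply CartesianMonoidalCategory.hom_ext
    · rw [Category.assoc, lift_fst, ← Category.assoc, comp_lift, comp_inv, lift_fst, ← Category.assoc _ (snd X T), lift_snd,
        ← lift_act_mul, inv_mul_cancel, lift_act_one, Category.id_comp]
    · simp
  inv_hom_id := by
    apply CartesianMonoidalCategory.hom_ext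
    · rw [Category.assoc, lift_fst, ← Category.assoc, comp_lift, lift_fst, ← Category.assoc _ (snd X T), lift_snd,
        ← lift_act_mul, mul_inv_cancel, lift_act_one, Category.id_comp]
    · simp

theorem exists_pair (hΦ : Surjective (lift a.act (snd G X)).left) (p q : X.left) :
    ∃ v : (G ⊗ X).left, a.act.left v = p ∧ (snd G X).left v = q := by
  obtain ⟨w, hw1, hw2⟩ := Scheme.Pullback.exists_preimage_pullback (f := X.hom) (g := X.hom) p q
    (Subsingleton.elim (α := Spec (CommRingCat.of k)) _ _)
  obtain ⟨v, rfl⟩ := (lift a.act (snd G X)).left.surjective w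
  exact ⟨v, (lift_fst_apply a.act (snd G X) v).symm.trans hw1, (lift_snd_apply a.act (snd G X) v).symm.trans hw2⟩

theorem uniq_algClosed [IsAlgClosed k] (hΦ : Surjective (lift a.act (snd G X)).left) (x : X.left) : Uniq x := by
  obtain ⟨ξ, hξ, -⟩ := exists_maxl x
  obtain ⟨v, hv1, hv2⟩ := exists_pair a hΦ x ξ
  let T := pt v
  let g : T ⟶ G := ptι v ≫ fst G X
  let y : T ⟶ X := ptι v ≫ snd G X
  let p : T.left := ptPt v
  haveI : Subsingleton T.left := inferInstanceAs (Subsingleton (Spec ((G ⊗ X).left.residueField v)))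
  have hy : y.left p = ξ := by rw [comp_left_apply, ptι_apply, hv2]
  have hirr : ∀ c : X.left, IsIrreducible ((fst X T).left ⁻¹' {c}) := fun c => by
    convert isIrreducible_rect c p using 1
    rw [show (snd X T).left ⁻¹' {p} = Set.univ from Set.eq_univ_of_forall fun z => Subsingleton.elim _ _, Set.inter_univ]
  have h1 : Uniq ((lift y (𝟙 T)).left p) := by
    refine uniq_up (fst X T).left (generalizing_fst X T) (fst X T).left.continuous ?_ fun c _ => hirr c
    rw [lift_fst_apply, hy]
    intro s t _ _ hs ht
    rw [hξ s hs, hξ t ht]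
  haveI : IsIso (tau a g).hom.left := isIso_left _
  have h2 := uniq_homeomorph (tau a g).hom.left.homeomorph h1
  have h3 := uniq_down (fst X T).left (generalizing_fst X T) (fst X T).left.continuous h2
  convert h3 using 1
  show x = (fst X T).left ((tau a g).hom.left ((lift y (𝟙 T)).left p))
  rw [← comp_left_apply, ← comp_left_apply, tau, lift_fst, ← Category.assoc, comp_lift, lift_fst, ← Category.assoc,
    lift_snd, Category.id_comp]
  have e : lift g y ≫ a.act = ptι v ≫ a.act := by
    congr 1
    apply CartesianMonoidalCategory.hom_ext <;> simp [g, y]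
  rw [e, comp_left_apply, ptι_apply, hv1]

/-- every point of a homogeneous space has a unique maximal generization -/
theorem uniq (hΦ : Surjective (lift a.act (snd G X)).left) (x : X.left) : Uniq x := by
  let K := AlgebraicClosure k
  let t : Spec (CommRingCat.of K) ⟶ Spec (CommRingCat.of k) := Spec.map (CommRingCat.ofHom (algebraMap k K))
  haveI : Surjective t := ⟨fun s => ⟨IsLocalRing.closedPoint K, Subsingleton.elim (α := Spec (CommRingCat.of k)) _ _⟩⟩
  obtain ⟨x', rfl⟩ := (pullback.fst X.hom t).surjective x
  exact uniq_down (pullback.fst X.hom t) (Flat.generalizingMap _) (pullback.fst X.hom t).continuous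
    (uniq_algClosed (a.bc t) (HomogSep.surjective_bc a hΦ t) x')

theorem surjective_orbit (hΦ : Surjective (lift a.act (snd G X)).left)
    (z : 𝟙_ (Over (Spec (CommRingCat.of k))) ⟶ X) : Function.Surjective (a.orbitMap z).left := by
  intro ξ
  obtain ⟨v, hv1, hv2⟩ := exists_pair a hΦ ξ (z.left (IsLocalRing.closedPoint k))
  obtain ⟨v', rfl⟩ : v ∈ Set.range (G ◁ z).left := by
    rw [← id_tensorHom, range_tensorHom]
    exact ⟨⟨_, rfl⟩, _, hv2.symm⟩
  refine ⟨(fst G _).left v', ?_⟩
  rw [← comp_left_apply, ← hv1, ← comp_left_apply]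
  congr 2
  rw [AlgGrp.Action.orbitMap, ← Category.assoc, comp_lift, Category.comp_id, ← Category.assoc,
    toUnit_unique (_ ≫ toUnit G) (snd G _)]
  congr 1

/-- the orbit map of a rational point carries the generic point of the neutral component to a maximal point -/
theorem orbit_gen_maxl (hΦ : Surjective (lift a.act (snd G X)).left)
    (z : 𝟙_ (Over (Spec (CommRingCat.of k))) ⟶ X) : Maxl ((a.orbitMap z).left (gen (e G))) := by
  let o := a.orbitMap z
  obtain ⟨ξ, hξ, -⟩ := exists_maxl (z.left (IsLocalRing.closedPoint k))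
  obtain ⟨g₁, hg₁⟩ := surjective_orbit a hΦ z ξ
  obtain ⟨g₀, hg₀, hg₀₁⟩ := exists_maxl g₁
  have hog : o.left g₀ = ξ := hξ _ (hg₁ ▸ hg₀₁.map o.left.continuous)
  subst hog
  let T := pt g₀
  let g : T ⟶ G := ptι g₀
  let p : T.left := ptPt g₀
  haveI : Subsingleton T.left := inferInstanceAs (Subsingleton (Spec (G.left.residueField g₀)))
  -- the translated generic point
  let θ : G ⊗ T ≅ G ⊗ T :=
    { hom := lift ((snd G T ≫ g) * fst G T) (snd G T)
      inv := lift ((snd G T ≫ g)⁻¹ * fst G T) (snd G T)
      hom_inv_id := by ext <;> simp [comp_mul, comp_inv, _root_.mul_assoc]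
      inv_hom_id := by ext <;> simp [comp_mul, comp_inv, _root_.mul_assoc] }
  haveI : IsIso θ.hom.left := isIso_left _
  let eT : (G ⊗ T).left := (lift (1 : T ⟶ G) (𝟙 T)).left p
  obtain ⟨c₀, hc₀, hc₀e⟩ := exists_maxl eT
  have hfc : (fst G T).left c₀ = gen (e G) := by
    have h1 : (fst G T).left c₀ ⤳ e G := by
      have h := hc₀e.map (fst G T).left.continuous
      rw [lift_fst_apply, Hom.one_def, comp_left_apply] at h
      rwa [show (toUnit T).left p = IsLocalRing.closedPoint k from
        Subsingleton.elim (α := Spec (CommRingCat.of k)) _ _] at h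
    exact ((maxl_map (generalizing_fst G T) (fst G T).left.continuous hc₀) _
      (gen_specializes_of_specializes h1)).symm
  let q₀ := θ.hom.left c₀
  have hq₀ : Maxl q₀ := maxl_homeomorph θ.hom.left.homeomorph hc₀
  have hfq : (fst G T).left q₀ = g₀ := by
    refine hg₀ _ ?_
    have e : lift (1 : T ⟶ G) (𝟙 T) ≫ θ.hom ≫ fst G T = g := by simp [θ, comp_mul]
    have h := (hc₀e.map θ.hom.left.continuous).map (fst G T).left.continuous
    have h2 : (fst G T).left (θ.hom.left eT) = g₀ := by
      rw [← comp_left_apply, ← comp_left_apply, e, ptι_apply]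
    rw [h2] at h
    exact h
  -- its image is maximal
  let O : G ⊗ T ⟶ X ⊗ T := o ▷ T
  have hOq : Maxl (O.left q₀) := by
    intro w hw
    have hw1 : (fst X T).left w = o.left g₀ := by
      refine hξ _ ?_
      have h := hw.map (fst X T).left.continuous
      rwa [← comp_left_apply O, whiskerRight_fst, comp_left_apply, hfq] at h
    let φ : pt g₀ ⟶ pt (o.left g₀) := Over.homMk (Spec.map (o.left.residueFieldMap g₀)) (by
      show Spec.map _ ≫ X.left.fromSpecResidueField _ ≫ X.hom = G.left.fromSpecResidueField g₀ ≫ G.hom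
      rw [Scheme.Hom.SpecMap_residueFieldMap_fromSpecResidueField_assoc, Over.w])
    have hφ : φ ≫ ptι (o.left g₀) = ptι g₀ ≫ o :=
      Over.OverMorphism.ext (Scheme.Hom.SpecMap_residueFieldMap_fromSpecResidueField _ _)
    haveI : Flat φ.left := inferInstanceAs (Flat (Spec.map (o.left.residueFieldMap g₀)))
    haveI : Flat (φ ▷ T).left := by
      rw [← tensorHom_id, Over.tensorHom_left]
      exact MorphismProperty.pullbackMap (P := @Flat) inferInstance (MorphismProperty.id_mem _ _)
        (Over.w φ).symm (Over.w (𝟙 T)).symm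
    haveI : IsPreimmersion (ptι (o.left g₀) ▷ T).left := by
      rw [← tensorHom_id, Over.tensorHom_left]
      exact MorphismProperty.pullbackMap (P := @IsPreimmersion)
        (inferInstanceAs (IsPreimmersion (X.left.fromSpecResidueField (o.left g₀)))) (MorphismProperty.id_mem _ _)
        (Over.w (ptι (o.left g₀))).symm (Over.w (𝟙 T)).symm
    obtain ⟨w', rfl⟩ : w ∈ Set.range (ptι (o.left g₀) ▷ T).left := by
      rw [← tensorHom_id, range_tensorHom, range_ptι]
      exact ⟨hw1, _, rfl⟩
    obtain ⟨q', hq'⟩ : q₀ ∈ Set.range (ptι g₀ ▷ T).left := by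
      rw [← tensorHom_id, range_tensorHom, range_ptι]
      exact ⟨hfq, _, rfl⟩
    have hsq : (φ ▷ T) ≫ (ptι (o.left g₀) ▷ T) = (ptι g₀ ▷ T) ≫ O := by
      rw [← comp_whiskerRight, hφ, comp_whiskerRight]
    have hw' : w' ⤳ (φ ▷ T).left q' := by
      rw [← (ptι (o.left g₀) ▷ T).left.isEmbedding.isInducing.specializes_iff, ← comp_left_apply, hsq, comp_left_apply, hq']
      exact hw
    obtain ⟨r, hr, rfl⟩ := Flat.generalizingMap (φ ▷ T).left hw'
    have hr' := hq₀ _ (hq' ▸ hr.map (ptι g₀ ▷ T).left.continuous)
    rw [← comp_left_apply, hsq, comp_left_apply, hr']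
  -- translate back
  haveI : IsIso (tau a g).inv.left := isIso_left (tau a g).symm
  haveI : IsIso (tau a g).hom.left := isIso_left (tau a g)
  have hcomm : θ.hom ≫ O = O ≫ (tau a g).hom := by
    apply CartesianMonoidalCategory.hom_ext
    · simp only [O, θ, tau, Category.assoc, whiskerRight_fst, lift_fst_assoc]
      simp only [o, AlgGrp.Action.orbitMap, ← Category.assoc, comp_lift, Category.comp_id, whiskerRight_fst,
        whiskerRight_snd, lift_snd, lift_fst]
      rw [← lift_act_mul]
      congr 3
      exact toUnit_unique _ _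
    · simp [O, θ, tau]
  have h := maxl_homeomorph (tau a g).hom.left.homeomorph.symm hOq
  have h2 : (tau a g).hom.left.homeomorph.symm (O.left q₀) = O.left c₀ := by
    rw [Homeomorph.symm_apply_eq]
    show O.left (θ.hom.left c₀) = (tau a g).hom.left (O.left c₀)
    rw [← comp_left_apply, hcomm, comp_left_apply]
  have h3 := maxl_map (generalizing_fst X T) (fst X T).left.continuous (h2 ▸ h)
  rwa [← comp_left_apply O, whiskerRight_fst, comp_left_apply, hfc] at h3

end field

end Groth.Agent.Homog
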