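import Groth.Agent.NeutralSet.Homog
import Groth.Agent.DiagAction.CentralSubgroup
import Groth.Agent.FieldExtConn.Conn

/-!
Connected components of homogeneous spaces over a field.
-/

universe u

open CategoryTheory Limits MonoidalCategory CartesianMonoidalCategory MonObj GrpObj AlgebraicGeometry TopologicalSpace

set_option backward.isDefEq.respectTransparency false
set_option linter.style.haveILetI false

noncomputable section

namespace Groth.Agent.Homog

open GrpSchField DiagAction

variable {k : Type u} [Field k] {G X : Over (Spec (CommRingCat.of k))} [GrpObj G] (a : AlgGrp.Action G X)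

/-- a maximal generization -/
def mgen (x : X.left) : X.left := (exists_maxl x).choose

theorem mgen_maxl (x : X.left) : Maxl (mgen x) := (exists_maxl x).choose_spec.1

theorem mgen_specializes (x : X.left) : mgen x ⤳ x := (exists_maxl x).choose_spec.2

variable (hΦ : Surjective (lift a.act (snd G X)).left)
include hΦ

theorem eq_mgen {c x : X.left} (hc : Maxl c) (h : c ⤳ x) : c = mgen x :=
  uniq a hΦ x _ _ hc (mgen_maxl x) h (mgen_specializes x)

theorem mgen_eq_of_specializes {y x : X.left} (h : y ⤳ x) : mgen y = mgen x :=
  eq_mgen a hΦ (mgen_maxl y) ((mgen_specializes y).trans h)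

theorem component_eq {C : Set X.left} (hC : C ∈ irreducibleComponents X.left) {z : X.left} (hz : z ∈ C) :
    C = closure {mgen z} := by
    obtain ⟨c, hc⟩ := QuasiSober.sober hC.1 (isClosed_of_mem_irreducibleComponents C hC)
    have hmax : Maxl c := fun w hw => by
      have hsub : C ⊆ closure {w} := hc.def ▸ closure_minimal (Set.singleton_subset_iff.2 hw.mem_closure) isClosed_closure
      have h1 : closure {w} ⊆ C := hC.2 isIrreducible_singleton.closure hsub
      exact (hw.antisymm (hc.specializes (h1 (subset_closure rfl)))).eq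
    rw [← hc.def, eq_mgen a hΦ hmax (hc.specializes hz)]

theorem existsUnique_component (z : X.left) : ∃! C, C ∈ irreducibleComponents X.left ∧ z ∈ C := by
  refine ⟨irreducibleComponent z, ⟨irreducibleComponent_mem_irreducibleComponents z, mem_irreducibleComponent⟩, ?_⟩
  intro C hC
  rw [component_eq a hΦ hC.1 hC.2, component_eq a hΦ (irreducibleComponent_mem_irreducibleComponents z) mem_irreducibleComponent]

/-- points of the neutral component do not change the component -/
theorem mgen_act {w : (G ⊗ X).left} (hw : (fst G X).left w ∈ unitComp G) :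
    mgen (a.act.left w) = mgen ((snd G X).left w) := by
  set x := (snd G X).left w with hx
  let T := pt x
  haveI : Subsingleton T.left := inferInstanceAs (Subsingleton (Spec (X.left.residueField x)))
  have hirr := isIrreducible_preimage_unitComp (G := G) (X.left.fromSpecResidueField x ≫ X.hom)
  obtain ⟨γ₀, hγ⟩ := QuasiSober.sober hirr
    ((isClosed_closure (s := {gen (e G)})).preimage (fst G T).left.continuous)
  let j : G ⊗ T ⟶ G ⊗ X := G ◁ ptι x
  obtain ⟨w', hw'⟩ : w ∈ Set.range j.left := by
    rw [show j = 𝟙 G ⊗ₘ ptι x from (id_tensorHom _ _).symm, range_tensorHom, range_ptι]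
    exact ⟨⟨_, rfl⟩, hx.symm⟩
  have h1 : γ₀ ⤳ w' := hγ.specializes (by
    show (fst G T).left w' ∈ unitComp G
    rwa [← hw', ← comp_left_apply j, whiskerLeft_fst] at hw)
  have h2 : γ₀ ⤳ (lift (1 : T ⟶ G) (𝟙 T)).left (ptPt x) := hγ.specializes (by
    show (fst G T).left _ ∈ unitComp G
    rw [lift_fst_apply, Hom.one_def, comp_left_apply,
      show (toUnit T).left (ptPt x) = IsLocalRing.closedPoint k from Subsingleton.elim (α := Spec (CommRingCat.of k)) _ _]
    exact e_mem_unitComp)
  let f := j ≫ a.act
  have e1 : f.left w' = a.act.left w := by rw [comp_left_apply, hw']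
  have e2 : f.left ((lift (1 : T ⟶ G) (𝟙 T)).left (ptPt x)) = x := by
    rw [← comp_left_apply, ← Category.assoc, lift_whiskerLeft, lift_act_one, Category.id_comp, ptι_apply]
  rw [← mgen_eq_of_specializes a hΦ (e1 ▸ h1.map f.left.continuous),
    mgen_eq_of_specializes a hΦ (e2 ▸ h2.map f.left.continuous)]

/-- the generic point of the neutral component moves any point to its maximal generization -/
theorem exists_gen_act (x : X.left) :
    ∃ w : (G ⊗ X).left, (fst G X).left w = gen (e G) ∧ (snd G X).left w = x ∧ a.act.left w = mgen x := by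
  let T := pt x
  let t : Spec (CommRingCat.of (X.left.residueField x)) ⟶ Spec (CommRingCat.of k) := T.hom
  haveI : Subsingleton T.left := inferInstanceAs (Subsingleton (Spec (X.left.residueField x)))
  let G' := Red.bc t G
  let X' := Red.bc t X
  let a' := a.bc t
  have hΦ' := HomogSep.surjective_bc a hΦ t
  let x' : 𝟙_ (Over (Spec (CommRingCat.of (X.left.residueField x)))) ⟶ X' :=
    upP t (Over.homMk (X.left.fromSpecResidueField x) (by
      show _ = 𝟙 _ ≫ t
      rw [Category.id_comp]; rfl))
  let p : G' ⟶ X' := toUnit G' ≫ x'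
  let L : (Over.map t).obj G' ⟶ G ⊗ X := lift (downP t (𝟙 G')) (downP t p)
  let c₁ : G'.left := gen (e G')
  have hL : downP t (a'.orbitMap x') = L ≫ a.act := by
    show downP t (lift (𝟙 G') p ≫ Functor.LaxMonoidal.μ (Over.pullback t) G X ≫ (Over.pullback t).map a.act) = _
    rw [← Category.assoc, downP_comp_map]
    congr 1
    apply CartesianMonoidalCategory.hom_ext
    · rw [lift_fst, ← downP_comp_map, Category.assoc, Functor.Monoidal.μ_fst, lift_fst]
    · rw [lift_snd, ← downP_comp_map, Category.assoc, Functor.Monoidal.μ_snd, lift_snd]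
  have hfst : (downP t (𝟙 G')).left c₁ = gen (e G) := by
    rw [CentralDescent.downP_left]
    have h1 := maxl_map (Flat.generalizingMap (pullback.fst G.hom t)) (pullback.fst G.hom t).continuous
      (show Maxl c₁ from fun w hw => eq_gen_of_specializes hw)
    have h2 : pullback.fst G.hom t (e G') = e G := by
      have h := SubgroupWeil.one_bc_left (X := G) t
      have h' := congrArg (fun m : _ ⟶ G.left => m (IsLocalRing.closedPoint (X.left.residueField x))) h
      refine ((Scheme.Hom.comp_apply _ _ _).symm.trans h').trans ?_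
      exact (Scheme.Hom.comp_apply _ _ _).trans
        (congrArg η[G].left (Subsingleton.elim (α := Spec (CommRingCat.of k)) _ _))
    have h3 : pullback.fst G.hom t c₁ ⤳ e G := h2 ▸ (gen_specializes (e G')).map (pullback.fst G.hom t).continuous
    simp only [Over.id_left, Category.id_comp]
    exact (h1 _ (gen_specializes_of_specializes h3)).symm
  have hsnd : (downP t p).left c₁ = x := by
    rw [show p = toUnit G' ≫ x' from rfl, downP_comp, downP_upP, comp_left_apply]
    exact X.left.fromSpecResidueField_apply x _
  refine ⟨L.left c₁, by rw [← comp_left_apply, lift_fst, hfst], by rw [← comp_left_apply, lift_snd, hsnd], ?_⟩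
  have hmax : Maxl (pullback.fst X.hom t ((a'.orbitMap x').left c₁)) :=
    maxl_map (Flat.generalizingMap (pullback.fst X.hom t)) (pullback.fst X.hom t).continuous
      (orbit_gen_maxl a' hΦ' x')
  have hval : pullback.fst X.hom t ((a'.orbitMap x').left c₁) = a.act.left (L.left c₁) := by
    rw [← comp_left_apply, ← hL, CentralDescent.downP_left]
    exact (Scheme.Hom.comp_apply _ _ _).symm
  rw [hval] at hmax
  have h4 := mgen_act a hΦ (w := L.left c₁) (by
    rw [← comp_left_apply, lift_fst, hfst]; exact subset_closure rfl)
  have e : (snd G X).left (L.left c₁) = x := by rw [← comp_left_apply, lift_snd, hsnd]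
  rw [e] at h4
  rw [← h4]
  exact eq_mgen a hΦ hmax (specializes_refl _)

theorem isOpen_mgen_preimage (V : X.left.Opens) : IsOpen {x : X.left | mgen x ∈ V} := by
  have h : {x : X.left | mgen x ∈ V} = (snd G X).left ''
      (a.act.left ⁻¹' V ∩ (fst G X).left ⁻¹' {gen (e G)}) := by
    ext x
    constructor
    · intro hx
      obtain ⟨w, h1, h2, h3⟩ := exists_gen_act a hΦ x
      exact ⟨w, ⟨show a.act.left w ∈ V from h3 ▸ hx, h1⟩, h2⟩
    · rintro ⟨w, ⟨hw, hw1⟩, rfl⟩
      change mgen ((snd G X).left w) ∈ V
      rw [← mgen_act a hΦ (show (fst G X).left w ∈ unitComp G by rw [show (fst G X).left w = _ from hw1]; exact subset_closure rfl)]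
      exact (mgen_specializes _).mem_open V.2 hw
  let j := ptι (gen (e G)) ⊗ₘ 𝟙 X
  have h2 : (snd G X).left '' (a.act.left ⁻¹' V ∩ (fst G X).left ⁻¹' {gen (e G)}) =
      (snd (pt (gen (e G))) X).left '' (j.left ⁻¹' (a.act.left ⁻¹' V)) := by
    rw [← range_ptι_whisker, ← Set.image_preimage_eq_inter_range, Set.image_image]
    refine Set.image_congr' fun r => ?_
    rw [← comp_left_apply, tensorHom_snd, Category.comp_id]
  rw [h, h2]
  exact (snd _ X).left.isOpenMap _ ((V.2.preimage a.act.left.continuous).preimage j.left.continuous)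

/-- the connected component is the closure of the maximal generization -/
theorem connectedComponent_eq [QuasiSeparatedSpace X.left] (x : X.left) :
    connectedComponent x = closure {mgen x} := by
  refine subset_antisymm (fun y hy => ?_)
    (isIrreducible_singleton.closure.isConnected.2.subset_connectedComponent (mgen_specializes x).mem_closure)
  suffices h : mgen y = mgen x from h ▸ (mgen_specializes y).mem_closure
  by_contra hne
  have hns : ¬ mgen y ⤳ mgen x := fun h => hne (mgen_maxl x _ h)
  obtain ⟨O, hO, hxO, hyO⟩ := not_specializes_iff_exists_open.1 hns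
  obtain ⟨_, ⟨V, hV, rfl⟩, hxV, hVO⟩ := X.left.isBasis_affineOpens.exists_subset_of_mem_open hxO hO
  have hclosed : IsClosed {z : X.left | mgen z ∈ V} := by
    suffices {z : X.left | mgen z ∈ V} = closure (V : Set X.left) from this ▸ isClosed_closure
    ext z
    refine ⟨fun hz => closure_mono (Set.singleton_subset_iff.2 (show mgen z ∈ (V : Set X.left) from hz))
      (mgen_specializes z).mem_closure, fun hz => ?_⟩
    obtain ⟨v, hv, hvz⟩ := exists_specializes_of_mem_closure (IsAffineOpen.isCompact hV) hz
    change mgen z ∈ V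
    rw [← mgen_eq_of_specializes a hΦ hvz]
    exact (mgen_specializes v).mem_open V.2 hv
  exact hyO (hVO ((show IsClopen {z : X.left | mgen z ∈ V} from
    ⟨hclosed, isOpen_mgen_preimage a hΦ V⟩).connectedComponent_subset hxV hy))

omit hΦ in
/-- an irreducible preimage over the algebraic closure gives one over every field -/
theorem isIrreducible_preimage_of_algClosure {Y : Scheme.{u}} (f : Y ⟶ Spec (CommRingCat.of k)) (C : Set Y)
    (hκ : IsIrreducible ((pullback.fst f (FieldExtConn.ext k (AlgebraicClosure k))) ⁻¹' C))
    (E : Type u) [Field E] [Algebra k E] :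
    IsIrreducible ((pullback.fst f (FieldExtConn.ext k E)) ⁻¹' C) := by
  let κ := AlgebraicClosure k
  let Ω := AlgebraicClosure E
  let jE : E →ₐ[k] Ω := IsScalarTower.toAlgHom k E Ω
  let φ : κ →ₐ[k] Ω := IsAlgClosed.lift
  have : GeometricallyIrreducible (FieldExtConn.extMap φ) := by
    refine ⟨geometrically_iff_of_isClosedUnderIsomorphisms.mpr fun L _ x => ?_⟩
    obtain ⟨χ, rfl⟩ := Spec.map_surjective x
    let := φ.toRingHom.toAlgebra
    let := χ.hom.toAlgebra
    have := FieldExtConn.isDomain_tensor_of_isAlgClosed κ Ω L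
    have : IrreducibleSpace ↥(Spec (CommRingCat.of (TensorProduct κ Ω L))) :=
      (inferInstance : IrreducibleSpace (PrimeSpectrum (TensorProduct κ Ω L)))
    exact (pullbackSpecIso κ Ω L).hom.homeomorph.irreducibleSpace_iff.mpr inferInstance
  have : GeometricallyIrreducible (FieldExtConn.baseMap f φ) :=
    FieldExtConn.baseMap_prop f @GeometricallyIrreducible φ this
  have hirr := (FieldExtConn.baseMap f φ).isIrreducible_preimage (FieldExtConn.baseMap f φ).isOpenMap hκ
  have := hirr.image (FieldExtConn.baseMap f jE) (FieldExtConn.baseMap f jE).continuous.continuousOn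
  have e1 : (FieldExtConn.baseMap f φ) ⁻¹' ((pullback.fst f (FieldExtConn.ext k κ)) ⁻¹' C) =
      (FieldExtConn.baseMap f jE) ⁻¹' ((pullback.fst f (FieldExtConn.ext k E)) ⁻¹' C) := by
    rw [← Set.preimage_comp, ← Set.preimage_comp]
    congr 1
    funext w
    exact (congrArg (fun m : _ ⟶ Y => m w) (FieldExtConn.baseMap_fst f φ)).trans
      (congrArg (fun m : _ ⟶ Y => m w) (FieldExtConn.baseMap_fst f jE)).symm
  rw [e1, Set.image_preimage_eq _ (FieldExtConn.baseMap f jE).surjective] at this
  exact this

/-- the component of a rational point is geometrically irreducible -/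
theorem isIrreducible_preimage_closure (z : 𝟙_ (Over (Spec (CommRingCat.of k))) ⟶ X)
    (E : Type u) [Field E] [Algebra k E] :
    IsIrreducible ((pullback.fst X.hom (FieldExtConn.ext k E)) ⁻¹'
      closure {mgen (z.left (IsLocalRing.closedPoint k))}) := by
  refine isIrreducible_preimage_of_algClosure X.hom _ ?_ E
  let κ := AlgebraicClosure k
  let t := FieldExtConn.ext k κ
  let π := pullback.fst X.hom t
  set x := z.left (IsLocalRing.closedPoint k) with hx
  haveI : IsIntegralHom π := by
    have h : IsIntegralHom t := by
      rw [IsIntegralHom.SpecMap_iff]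
      exact fun x => Algebra.IsIntegral.isIntegral x
    exact MorphismProperty.of_isPullback (P := @IsIntegralHom) (IsPullback.of_hasPullback X.hom t).flip h
  haveI : Surjective t := ⟨fun s => ⟨IsLocalRing.closedPoint κ, Subsingleton.elim (α := Spec (CommRingCat.of k)) _ _⟩⟩
  -- the point over a rational point is unique
  have hone : ∀ p q, π p = x → π q = x → p = q := by
    intro p q hp hq
    let Tκ : Over (Spec (CommRingCat.of k)) := Over.mk t
    let l := z ⊗ₘ 𝟙 Tκ
    haveI : Subsingleton Tκ.left := inferInstanceAs (Subsingleton (Spec (CommRingCat.of κ)))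
    haveI : IsIso (λ_ Tκ).hom.left := isIso_left _
    haveI : Subsingleton (𝟙_ _ ⊗ Tκ).left := (λ_ Tκ).hom.left.homeomorph.injective.subsingleton
    have hmem : ∀ r : ↥(X ⊗ Tκ).left, π r = x → r ∈ Set.range l.left := fun r hr => by
      rw [range_tensorHom]
      exact ⟨⟨_, hr.symm⟩, _, rfl⟩
    obtain ⟨p', rfl⟩ := hmem p hp
    obtain ⟨q', rfl⟩ := hmem q hq
    rw [Subsingleton.elim p' q']
  have hU : ∀ q, Uniq q := uniq (a.bc t) (HomogSep.surjective_bc a hΦ t)
  obtain ⟨q₀, hq₀⟩ := π.surjective x
  obtain ⟨m, hm, hmq⟩ := exists_maxl q₀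
  have hcl : π ⁻¹' closure {mgen x} = closure {m} := by
    haveI : UniversallyOpen π := inferInstanceAs (UniversallyOpen (pullback.fst X.hom t))
    refine subset_antisymm ?_ ?_
    · rw [π.isOpenMap.preimage_closure_eq_closure_preimage π.continuous]
      refine closure_minimal (fun w hw => ?_) isClosed_closure
      obtain ⟨n, hn, hnw⟩ := exists_maxl w
      have hπn : π n = mgen x := mgen_maxl x _ (by
        have h := hnw.map π.continuous; rwa [show π w = mgen x from hw] at h)
      obtain ⟨q, hq, hqx⟩ := (π.isClosedMap _ (isClosed_closure (s := {n}))).closure_subset_iff.2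
        (Set.singleton_subset_iff.2 ⟨n, subset_closure rfl, hπn⟩) (mgen_specializes x).mem_closure
      rw [hone q q₀ hqx hq₀] at hq
      rw [hU q₀ m n hm hn hmq (specializes_iff_mem_closure.2 hq)]
      exact hnw.mem_closure
    · refine closure_minimal (Set.singleton_subset_iff.2 ?_) (isClosed_closure.preimage π.continuous)
      show π m ∈ closure {mgen x}
      rw [eq_mgen a hΦ (maxl_map (Flat.generalizingMap π) π.continuous hm) (hq₀ ▸ hmq.map π.continuous)]
      exact subset_closure rfl
  show IsIrreducible (π ⁻¹' closure {mgen x})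
  rw [hcl]
  exact isIrreducible_singleton.closure

end Groth.Agent.Homog
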