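import Groth.Agent.NeutralSet.HomogConn
import Groth.Agent.HomogSep.Qs
import Groth.Agent.FibDim.Scheme

/-!
The components of a homogeneous space locally of finite type over a field have the same dimension.
-/

universe u

open CategoryTheory Limits MonoidalCategory CartesianMonoidalCategory MonObj GrpObj AlgebraicGeometry TopologicalSpace

set_option backward.isDefEq.respectTransparency false
set_option linter.style.haveILetI false

noncomputable section

namespace Groth.Agent.Homog

open GrpSchField HomogSep

theorem dim_closure_homeomorph {α β : Type u} [TopologicalSpace α] [TopologicalSpace β] (e : α ≃ₜ β) (x : α) :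
    topologicalKrullDim ↥(closure ({e x} : Set β)) = topologicalKrullDim ↥(closure ({x} : Set α)) := by
  have h : e '' closure {x} = closure {e x} := by rw [e.image_closure, Set.image_singleton]
  exact (IsHomeomorph.topologicalKrullDim_eq _ ((e.image (closure {x})).trans (Homeomorph.setCongr h)).isHomeomorph).symm

variable {k : Type u} [Field k] {G X : Over (Spec (CommRingCat.of k))} [GrpObj G] (a : AlgGrp.Action G X)

theorem dim_closure_mgen_algClosed [IsAlgClosed k] [LocallyOfFiniteType G.hom] [LocallyOfFiniteType X.hom]
    (hΦ : Surjective (lift a.act (snd G X)).left) {p q : X.left} (hp : p ∈ closedPoints X.left)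
    (hq : q ∈ closedPoints X.left) :
    topologicalKrullDim ↥(closure ({mgen p} : Set X.left)) = topologicalKrullDim ↥(closure ({mgen q} : Set X.left)) := by
  obtain ⟨s, hs⟩ := exists_section_of_closed hp
  obtain ⟨s', hs'⟩ := exists_section_of_closed hq
  haveI : JacobsonSpace G.left := LocallyOfFiniteType.jacobsonSpace G.hom
  obtain ⟨g, hg⟩ := surjective_orbit a hΦ s q
  obtain ⟨c, hc, hcc⟩ := nonempty_inter_closedPoints (Z := (a.orbitMap s).left ⁻¹' {q}) ⟨g, hg⟩
    ((hq : IsClosed ({q} : Set X.left)).preimage (a.orbitMap s).left.continuous).isLocallyClosed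
  obtain ⟨h, hh⟩ := exists_section_of_closed hcc
  let τ := translX a h
  haveI : IsIso τ.hom.left := isIso_left τ
  have hτ : τ.hom.left p = q := by
    rw [← hs, ← (show (a.orbitMap s).left c = q from hc), ← hh, ← comp_left_apply, ← comp_left_apply]
    congr 2
    simp only [τ, translX, AlgGrp.Action.orbitMap]
    rw [← Category.assoc, comp_lift, Category.comp_id, ← Category.assoc, toUnit_unique (s ≫ toUnit X) (𝟙 _),
      Category.id_comp, ← Category.assoc, comp_lift, Category.comp_id, ← Category.assoc,
      toUnit_unique (h ≫ toUnit G) (𝟙 _), Category.id_comp]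
  let e := τ.hom.left.homeomorph
  have hm : e (mgen p) = mgen q := eq_mgen a hΦ (maxl_homeomorph e (mgen_maxl p))
    (hτ ▸ (mgen_specializes p).map τ.hom.left.continuous)
  rw [← hm, dim_closure_homeomorph]

theorem dim_connectedComponent_eq [LocallyOfFiniteType G.hom] [LocallyOfFiniteType X.hom]
    (hΦ : Surjective (lift a.act (snd G X)).left) (x y : X.left) :
    topologicalKrullDim ↥(connectedComponent x) = topologicalKrullDim ↥(connectedComponent y) := by
  haveI : IsLocallyNoetherian X.left := LocallyOfFiniteType.isLocallyNoetherian X.hom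
  rw [connectedComponent_eq a hΦ, connectedComponent_eq a hΦ]
  let K := AlgebraicClosure k
  let φ : CommRingCat.of k ⟶ CommRingCat.of K := CommRingCat.ofHom (algebraMap k K)
  let t := Spec.map φ
  let a' := a.bc t
  have hΦ' := HomogSep.surjective_bc a hΦ t
  haveI : LocallyOfFiniteType (Red.bc t G).hom := inferInstanceAs (LocallyOfFiniteType (pullback.snd G.hom t))
  haveI : LocallyOfFiniteType (Red.bc t X).hom := inferInstanceAs (LocallyOfFiniteType (pullback.snd X.hom t))
  haveI : JacobsonSpace (Red.bc t X).left := LocallyOfFiniteType.jacobsonSpace (Red.bc t X).hom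
  haveI : JacobsonSpace ↥(pullback X.hom t) := LocallyOfFiniteType.jacobsonSpace (Red.bc t X).hom
  haveI : Surjective t := ⟨fun s => ⟨IsLocalRing.closedPoint K, Subsingleton.elim (α := Spec (CommRingCat.of k)) _ _⟩⟩
  have key : ∀ z : X.left, ∃ q, q ∈ closedPoints (Red.bc t X).left ∧
      topologicalKrullDim ↥(closure ({mgen q} : Set (Red.bc t X).left)) =
        topologicalKrullDim ↥(closure ({mgen z} : Set X.left)) := by
    intro z
    obtain ⟨w, hw⟩ := (pullback.fst X.hom t).surjective z
    obtain ⟨q, hq, hqc⟩ := nonempty_inter_closedPoints (Z := pullback.fst X.hom t ⁻¹' closure {mgen z})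
      ⟨w, show pullback.fst X.hom t w ∈ closure {mgen z} from hw ▸ (mgen_specializes z).mem_closure⟩
      (isClosed_closure.preimage (pullback.fst X.hom t).continuous).isLocallyClosed
    obtain ⟨hmax, hdim⟩ := FibDim.dim_closure_of_isPullback X.hom φ (IsPullback.of_hasPullback X.hom t)
      (mgen (X := Red.bc t X) q) (mgen_maxl (X := Red.bc t X) q)
    refine ⟨q, hqc, hdim.trans ?_⟩
    rw [eq_mgen a hΦ hmax ((mgen_specializes (X := Red.bc t X) q).map (pullback.fst X.hom t).continuous),
      ← mgen_eq_of_specializes a hΦ (specializes_iff_mem_closure.2 hq),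
      mgen_eq_of_specializes a hΦ (mgen_specializes z)]
  obtain ⟨p, hp, hpe⟩ := key x
  obtain ⟨q, hq, hqe⟩ := key y
  rw [← hpe, ← hqe]
  exact dim_closure_mgen_algClosed a' hΦ' hp hq

end Groth.Agent.Homog
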