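import Groth.Agent.NeutralSet.Constr
import Groth.Agent.LimLib.Constr
import Groth.Agent.ProConsLib.Basic

/-!
Points of the neutral set descend along limits.
-/

universe u

open CategoryTheory Limits AlgebraicGeometry MonObj

set_option backward.isDefEq.respectTransparency false

noncomputable section

namespace Groth.Agent.NeutralSet

theorem descend {I : Type u} [SmallCategory I] [IsCofiltered I]
    (D : I ⥤ Scheme.{u}) (c : Cone D) (hc : IsLimit c)
    [∀ (i i' : I) (f : i ⟶ i'), IsAffineHom (D.map f)] [∀ i, CompactSpace (D.obj i)] [∀ i, QuasiSeparatedSpace (D.obj i)]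
    (S₀ : Scheme.{u}) (q : ∀ i, D.obj i ⟶ S₀) (hq : ∀ (i i' : I) (f : i ⟶ i'), D.map f ≫ q i' = q i)
    (qlim : c.pt ⟶ S₀) (hqlim : ∀ i, c.π.app i ≫ q i = qlim)
    (G : Over S₀) [GrpObj G] [LocallyOfFinitePresentation G.hom] (u : c.pt ⟶ G.left) (hu : u ≫ G.hom = qlim)
    (hW : Set.range u.base ⊆ SGA3x.neutralSet G) :
    ∃ (i : I) (ui : D.obj i ⟶ G.left), ui ≫ G.hom = q i ∧ Set.range ui.base ⊆ SGA3x.neutralSet G ∧ c.π.app i ≫ ui = u := by
  let t : D ⟶ (Functor.const I).obj S₀ := { app := q, naturality := fun i i' f => by simp [hq] }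
  obtain ⟨i, ui, h1, h2⟩ := Scheme.exists_π_app_comp_eq_of_locallyOfFinitePresentation D t G.hom c hc u (by
    ext i
    simp [t, hqlim, hu])
  have hC : LimLib.LCClosed (ui ⁻¹' (SGA3x.neutralSet G)ᶜ) :=
    (LimLib.lcClosed_of_isProConstructible (ProConsLib.isInd_iff_isPro_compl.mp (isIndConstructible G))).preimage ui
  obtain ⟨j, φ, hj⟩ := LimLib.exists_preimage_eq_empty_lc hc hC (Set.eq_empty_of_forall_notMem fun p hp => by
    apply hp
    show ui (c.π.app i p) ∈ SGA3x.neutralSet G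
    rw [← Scheme.Hom.comp_apply, h1]
    exact hW ⟨p, rfl⟩)
  refine ⟨j, D.map φ ≫ ui, by rw [Category.assoc, h2]; exact hq j i φ, ?_, by rw [← Category.assoc, c.w, h1]⟩
  rintro _ ⟨p, rfl⟩
  by_contra hne
  exact Set.eq_empty_iff_forall_notMem.mp hj p (by
    show ui (D.map φ p) ∉ SGA3x.neutralSet G
    rw [← Scheme.Hom.comp_apply]
    exact hne)

end Groth.Agent.NeutralSet
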