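import Groth.Agent.NeutralSet.Open
import Groth.Agent.HomogSep.Qs
import Groth.Agent.GrpSchField.Translate
import Mathlib.AlgebraicGeometry.Morphisms.FlatMono

/-!
When a monomorphism from a group with connected fibres is the inclusion of the neutral component.
-/

universe u

open CategoryTheory Limits MonoidalCategory CartesianMonoidalCategory MonObj GrpObj AlgebraicGeometry TopologicalSpace
open Groth.Agent.GeomUnib Groth.Agent.GeomUnib.SectionComp

set_option backward.isDefEq.respectTransparency false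
set_option linter.style.haveILetI false

noncomputable section

namespace Groth.Agent.NeutralSet

variable {S : Scheme.{u}}

theorem factor_iff_subset {H N : Over S} (j : H ⟶ N) [IsOpenImmersion j.left] {T : Over S} (g : T ⟶ N) :
    (∃ h : T ⟶ H, h ≫ j = g) ↔ Set.range g.left ⊆ Set.range j.left := by
  constructor
  · rintro ⟨h, rfl⟩ _ ⟨p, rfl⟩
    exact ⟨h.left p, (Scheme.Hom.comp_apply _ _ p).symm⟩
  · intro hr
    exact ⟨Over.homMk (IsOpenImmersion.lift j.left g.left hr)
      (by rw [← Over.w j, IsOpenImmersion.lift_fac_assoc, Over.w g]),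
      Over.OverMorphism.ext (IsOpenImmersion.lift_fac _ _ _)⟩

variable {H N : Over S} [GrpObj H] [GrpObj N] (j : H ⟶ N) [IsMonHom j]

theorem range_eq_neutral (hconn : ∀ s : S, _root_.IsConnected (H.hom ⁻¹' {s})) [IsOpenImmersion j.left] :
    Set.range j.left = SGA3x.neutralSet N := by
  obtain ⟨hsub, him⟩ := open_subgroup N j
  refine Set.Subset.antisymm ?_ hsub
  rintro _ ⟨p, rfl⟩
  refine him.le ⟨p, (mem_iff H).mpr ?_, rfl⟩
  exact (hconn (H.hom p)).isPreconnected.subset_connectedComponentIn (section_apply (e1_w H) _) Set.Subset.rfl rfl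

variable [LocallyOfFiniteType N.hom] [LocallyOfFinitePresentation H.hom] [Flat H.hom]

omit [GrpObj H] [GrpObj N] [IsMonHom j] in
theorem isOpenImmersion_of_fibres [Mono j.left]
    (h : ∀ s : S, IsOpenImmersion ((Over.pullback (S.fromSpecResidueField s)).map j).left) : IsOpenImmersion j.left := by
  haveI : LocallyOfFinitePresentation (j.left ≫ N.hom) := by rw [Over.w j]; infer_instance
  haveI : LocallyOfFinitePresentation j.left :=
    FibrewiseCrit.locallyOfFinitePresentation_of_comp j.left N.hom inferInstance inferInstance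
  haveI : Flat j.left := (Flat.iff_flat_stalkMap _).mpr fun x => by
    haveI := h (H.hom x)
    exact (GrpSchField.flat_stalkMap_of_flat_fibre j inferInstance).2
  exact IsOpenImmersion.of_flat_of_mono j.left

omit [LocallyOfFinitePresentation H.hom] [Flat H.hom] in
theorem fibre_of_represents [Mono j]
    (hrep : ∀ (T : Over S) (g : T ⟶ N), (∃ h : T ⟶ H, h ≫ j = g) ↔ Set.range g.left ⊆ SGA3x.neutralSet N) (s : S) :
    IsOpenImmersion ((Over.pullback (S.fromSpecResidueField s)).map j).left := by
  let v := S.fromSpecResidueField s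
  let js : Red.bc v H ⟶ Red.bc v N := (Over.pullback v).map j
  haveI : LocallyOfFiniteType (Red.bc v N).hom := inferInstanceAs (LocallyOfFiniteType (pullback.snd N.hom v))
  haveI : Mono js := inferInstanceAs (Mono ((Over.pullback v).map j))
  let O : (Red.bc v N).left.Opens := ⟨GrpSchField.unitComp (Red.bc v N), HomogSep.isOpen_unitComp⟩
  have hO : ∀ z, z ∈ O ↔ pullback.fst N.hom v z ∈ SGA3x.neutralSet N := by
    intro z
    have hz : N.hom (pullback.fst N.hom v z) = s :=
      (N.hom.range_fiberι s).le ⟨z, rfl⟩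
    rw [mem_iff, hz]
    show z ∈ GrpSchField.unitComp (Red.bc v N) ↔ _
    rw [← GrpSchField.connectedComponent_eq_unitComp, ← preimage_X0]
    exact Iff.rfl
  let T₀ : Over (Spec (S.residueField s)) := Over.mk (O.ι ≫ (Red.bc v N).hom)
  let o : T₀ ⟶ Red.bc v N := Over.homMk O.ι
  haveI : IsOpenImmersion o.left := inferInstanceAs (IsOpenImmersion O.ι)
  haveI : Mono o := Over.mono_of_mono_left o
  obtain ⟨k₀, hk₀⟩ : ∃ h, h ≫ j = DiagAction.downP v o := (hrep _ _).mpr (by
    rintro _ ⟨p, rfl⟩
    rw [CentralDescent.downP_left, Scheme.Hom.comp_apply]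
    exact (hO _).mp (show o.left p ∈ O from p.2))
  have hk : DiagAction.upP v k₀ ≫ js = o := by
    rw [← DiagAction.upP_downP v (DiagAction.upP v k₀ ≫ js), DiagAction.downP_comp_map, DiagAction.downP_upP, hk₀,
      DiagAction.upP_downP]
  obtain ⟨l, hl⟩ := (factor_iff_subset o js).mpr (by
    rintro _ ⟨p, rfl⟩
    have : (DiagAction.downP v (𝟙 (Red.bc v H)) ≫ j).left p ∈ SGA3x.neutralSet N :=
      (hrep _ (DiagAction.downP v (𝟙 (Red.bc v H)) ≫ j)).mp ⟨DiagAction.downP v (𝟙 (Red.bc v H)), rfl⟩ ⟨p, rfl⟩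
    rw [← DiagAction.downP_comp_map, Category.id_comp, CentralDescent.downP_left, Scheme.Hom.comp_apply] at this
    exact ⟨⟨js.left p, (hO _).mpr this⟩, rfl⟩)
  haveI : IsIso l := ⟨DiagAction.upP v k₀, by rw [← cancel_mono js, Category.assoc, hk, hl, Category.id_comp],
    by rw [← cancel_mono o, Category.assoc, hl, hk, Category.id_comp]⟩
  show IsOpenImmersion js.left
  rw [← hl, Over.comp_left]
  haveI : IsIso l.left := GrpSchField.isIso_left (asIso l)
  infer_instance

theorem norm_main [Mono j] [Mono j.left] (hconn : ∀ s : S, _root_.IsConnected (H.hom ⁻¹' {s})) :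
    (IsOpenImmersion j.left ↔
      ∀ (T : Over S) (g : T ⟶ N), (∃ h : T ⟶ H, h ≫ j = g) ↔ Set.range g.left ⊆ SGA3x.neutralSet N) ∧
    (IsOpenImmersion j.left ↔
      ∀ s : S, IsOpenImmersion ((Over.pullback (S.fromSpecResidueField s)).map j).left ∧
        j.left '' (H.hom ⁻¹' {s}) = SGA3x.neutralSet N ∩ N.hom ⁻¹' {s}) := by
  refine ⟨⟨fun _ T g => ?_, fun h => isOpenImmersion_of_fibres j (fibre_of_represents j h)⟩,
    ⟨fun _ s => ⟨?_, ?_⟩, fun h => isOpenImmersion_of_fibres j fun s => (h s).1⟩⟩
  · rw [factor_iff_subset, range_eq_neutral j hconn]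
  · exact MorphismProperty.of_isPullback (P := @IsOpenImmersion)
      (GrpSchField.isPullback_fibreHom j s).flip ‹IsOpenImmersion j.left›
  · have hf : ∀ p, N.hom (j.left p) = H.hom p := fun p => by rw [← Scheme.Hom.comp_apply, Over.w j]
    ext y
    constructor
    · rintro ⟨p, hp, rfl⟩
      exact ⟨(range_eq_neutral j hconn).le ⟨p, rfl⟩, (hf p).trans hp⟩
    · rintro ⟨hy, hys⟩
      obtain ⟨p, rfl⟩ := (range_eq_neutral j hconn).ge hy
      exact ⟨p, (hf p).symm.trans hys, rfl⟩

end Groth.Agent.NeutralSet
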