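import Groth.Agent.NeutralSet.Smooth
import Groth.Agent.GrpSchField.Shear
import Groth.Agent.SourceDescent.Basic
import Groth.Agent.FlatDescent.CM.Main
import Groth.Agent.SmoothDense.GeomReg
import Groth.Agent.DepthLib.RegularLocal
import Groth.Agent.GeomUnib.SectionRestrict

/-!
Groups smooth along the unit section: the neutral set is an open subgroup scheme.
-/

universe u

open CategoryTheory Limits MonoidalCategory CartesianMonoidalCategory MonObj GrpObj AlgebraicGeometry TopologicalSpace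
open Groth.Agent.GeomUnib Groth.Agent.GeomUnib.SectionComp

set_option backward.isDefEq.respectTransparency false
set_option linter.style.haveILetI false

noncomputable section

namespace Groth.Agent.NeutralSet

variable {S : Scheme.{u}}

theorem range_tensorHom' {A B X Y : Over S} (f : A ⟶ X) (g : B ⟶ Y) :
    Set.range (f ⊗ₘ g).left = (fst X Y).left ⁻¹' Set.range f.left ∩ (snd X Y).left ⁻¹' Set.range g.left := by
  rw [Over.tensorHom_left]
  exact Scheme.Pullback.range_map ..

variable (G : Over S) [GrpObj G]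

/-- a point of the neutral set is a product of two points in any open of its fibre around the unit -/
theorem exists_mul_fibre {x : G.left} (hx : x ∈ SGA3x.neutralSet G)
    (U' : (Red.bc (S.fromSpecResidueField (G.hom x)) G).left.Opens)
    (he : GrpSchField.e (Red.bc (S.fromSpecResidueField (G.hom x)) G) ∈ U') :
    ∃ z : (G ⊗ G).left, μ[G].left z = x ∧
      (fst G G).left z ∈ G.hom.fiberι (G.hom x) '' SetLike.coe U' ∧
      (snd G G).left z ∈ G.hom.fiberι (G.hom x) '' SetLike.coe U' := by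
  let s := G.hom x
  let H := Red.bc (S.fromSpecResidueField s) G
  obtain ⟨x', hx'⟩ : x ∈ Set.range (G.hom.fiberι s) := (G.hom.range_fiberι s).ge rfl
  have hx'' : x' ∈ GrpSchField.unitComp H := by
    rw [← GrpSchField.connectedComponent_eq_unitComp, ← preimage_X0, Set.mem_preimage, hx']
    exact (mem_iff G).mp hx
  obtain ⟨p, ⟨hp1, hp2⟩, hp⟩ := GrpSchField.unitComp_subset_mulSet U' he hx''
  let v := S.fromSpecResidueField s
  let L := (lift (DiagAction.downP v (fst H H)) (DiagAction.downP v (snd H H)))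
  refine ⟨L.left p, ?_, ?_, ?_⟩
  · have h : DiagAction.downP v μ[H] = L ≫ μ[G] := by
      rw [← Hom.mul_def, ← DiagAction.downP_mul, Hom.mul_def, lift_fst_snd, Category.id_comp]
    have h' := congrArg (fun m => m p) ((congrArg Over.Hom.left h).symm.trans (CentralDescent.downP_left v μ[H]))
    refine ((Scheme.Hom.comp_apply _ _ p).symm.trans (h'.trans (Scheme.Hom.comp_apply _ _ p))).trans ?_
    exact (congrArg (pullback.fst G.hom v) hp).trans hx'
  · rw [← Scheme.Hom.comp_apply, ← Over.comp_left, lift_fst, CentralDescent.downP_left, Scheme.Hom.comp_apply]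
    exact ⟨_, hp1, rfl⟩
  · rw [← Scheme.Hom.comp_apply, ← Over.comp_left, lift_snd, CentralDescent.downP_left, Scheme.Hom.comp_apply]
    exact ⟨_, hp2, rfl⟩

theorem fiberι_e (s : S) : G.hom.fiberι s (GrpSchField.e (Red.bc (S.fromSpecResidueField s) G)) = e1 G s := by
  refine (Scheme.Hom.comp_apply _ (pullback.fst G.hom (S.fromSpecResidueField s)) _).symm.trans ?_
  refine ((congrArg (fun m : _ ⟶ G.left => m (IsLocalRing.closedPoint (S.residueField s)))
    (SubgroupWeil.one_bc_left (X := G) (S.fromSpecResidueField s))).trans (Scheme.Hom.comp_apply _ _ _)).trans ?_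
  exact congrArg η[G].left (Scheme.fromSpecResidueField_apply _ _)

/-- an open containing the unit section generates the neutral set -/
theorem subset_mul (U : G.left.Opens) (h1 : ∀ s, e1 G s ∈ U) :
    SGA3x.neutralSet G ⊆ μ[G].left '' ((fst G G).left ⁻¹' U ∩ (snd G G).left ⁻¹' U) := by
  intro x hx
  obtain ⟨z, hz, ⟨a, ha, ha'⟩, ⟨b, hb, hb'⟩⟩ := exists_mul_fibre G hx ((G.hom.fiberι (G.hom x)) ⁻¹ᵁ U)
    (by show G.hom.fiberι _ _ ∈ U; rw [fiberι_e]; exact h1 _)
  refine ⟨z, ⟨?_, ?_⟩, hz⟩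
  · show (fst G G).left z ∈ U; rw [← ha']; exact ha
  · show (snd G G).left z ∈ U; rw [← hb']; exact hb

/-- an open subgroup contains the neutral set, which is its own -/
theorem open_subgroup {H : Over S} [GrpObj H] (i : H ⟶ G) [IsMonHom i] [IsOpenImmersion i.left] :
    SGA3x.neutralSet G ⊆ Set.range i.left ∧ i.left '' SGA3x.neutralSet H = SGA3x.neutralSet G := by
  have hone : ∀ s, i.left (e1 H s) = e1 G s := fun s => by
    rw [← Scheme.Hom.comp_apply]
    show (η[H] ≫ i).left s = _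
    rw [IsMonHom.one_hom i]
    rfl
  have hsub : SGA3x.neutralSet G ⊆ Set.range i.left := by
    intro x hx
    obtain ⟨z, ⟨hz1, hz2⟩, rfl⟩ := subset_mul G i.left.opensRange (fun s => ⟨_, hone s⟩) hx
    obtain ⟨w, rfl⟩ : z ∈ Set.range (i ⊗ₘ i).left := by
      rw [range_tensorHom']; exact ⟨hz1, hz2⟩
    refine ⟨μ[H].left w, ?_⟩
    rw [← Scheme.Hom.comp_apply, ← Scheme.Hom.comp_apply, ← Over.comp_left, ← Over.comp_left,
      IsMonHom.mul_hom i]
  have hf : ∀ y, G.hom (i.left y) = H.hom y := fun y => by rw [← Scheme.Hom.comp_apply, Over.w i]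
  refine ⟨hsub, Set.Subset.antisymm ?_ fun x hx => ?_⟩
  · rintro _ ⟨y, hy, rfl⟩
    rw [mem_iff] at hy
    refine mem_of_mem_X0 G ((isPreconnected_connectedComponentIn.image _
      i.left.continuous.continuousOn).subset_connectedComponentIn
        ⟨_, mem_X0 (e1_w H) (H.hom y), hone _⟩ ?_ ⟨y, hy, rfl⟩)
    rintro _ ⟨w, hw, rfl⟩
    exact (hf w).trans (apply_of_mem_X0 (f := H.hom) hw)
  · obtain ⟨y, rfl⟩ := hsub hx
    refine ⟨y, ?_, rfl⟩
    have hX := (mem_iff G).mp hx
    rw [hf] at hX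
    let C := X0 G.hom (e1 G) (H.hom y)
    have hC : C ⊆ Set.range i.left := fun w hw => hsub (mem_of_mem_X0 G hw)
    have hpre : _root_.IsPreconnected (i.left ⁻¹' C) := i.left.isEmbedding.isInducing.isPreconnected_image.mp (by
      rw [Set.image_preimage_eq_of_subset hC]; exact isPreconnected_connectedComponentIn)
    rw [mem_iff]
    refine hpre.subset_connectedComponentIn ?_ ?_ hX
    · show i.left (e1 H (H.hom y)) ∈ C
      rw [hone]
      exact mem_X0 (e1_w G) _
    · intro w hw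
      exact (hf w).symm.trans (apply_of_mem_X0 (f := G.hom) hw)

/-- a group smooth along the unit section is smooth near the neutral set -/
theorem exists_smooth_open (U : G.left.Opens) (hU : Smooth (U.ι ≫ G.hom)) (h1 : ∀ s, e1 G s ∈ U) :
    ∃ P : G.left.Opens, Smooth (P.ι ≫ G.hom) ∧ SGA3x.neutralSet G ⊆ P := by
  let UU : Over S := Over.mk (U.ι ≫ G.hom)
  let j : UU ⟶ G := Over.homMk U.ι
  haveI : Smooth UU.hom := hU
  haveI : IsOpenImmersion j.left := inferInstanceAs (IsOpenImmersion U.ι)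
  haveI : Smooth (fst G UU).left := inferInstanceAs (Smooth (pullback.fst G.hom UU.hom))
  haveI : Smooth (fst UU UU).left := inferInstanceAs (Smooth (pullback.fst UU.hom UU.hom))
  let m : UU ⊗ UU ⟶ G ⊗ UU := lift ((j ⊗ₘ j) ≫ μ[G]) (snd UU UU)
  haveI : IsOpenImmersion (j ⊗ₘ j).left := by
    rw [Over.tensorHom_left]; infer_instance
  haveI hjw : IsOpenImmersion (𝟙 G ⊗ₘ j).left := by
    rw [Over.tensorHom_left]; infer_instance
  haveI : IsIso (GrpSchField.shearR (G := G)).hom.left := GrpSchField.isIso_left (GrpSchField.shearR (G := G))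
  have hm : m ≫ (𝟙 G ⊗ₘ j) = (j ⊗ₘ j) ≫ (GrpSchField.shearR (G := G)).hom := by
    show m ≫ (𝟙 G ⊗ₘ j) = (j ⊗ₘ j) ≫ lift (fst G G * snd G G) (snd G G)
    rw [Hom.mul_def, lift_fst_snd, Category.id_comp, lift_map, comp_lift, tensorHom_snd, Category.comp_id]
  haveI : IsOpenImmersion m.left := by
    haveI : IsOpenImmersion (m.left ≫ (𝟙 G ⊗ₘ j).left) := by
      rw [← Over.comp_left, hm, Over.comp_left]; infer_instance
    exact IsOpenImmersion.of_comp m.left (𝟙 G ⊗ₘ j).left
  let φ : (UU ⊗ UU).left ⟶ G.left := ((j ⊗ₘ j) ≫ μ[G]).left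
  haveI hφ : Smooth φ := by
    rw [show φ = m.left ≫ (fst G UU).left by rw [← Over.comp_left, lift_fst]]
    infer_instance
  let P : G.left.Opens := ⟨Set.range φ, φ.isOpenMap.isOpen_range⟩
  let φ' : (UU ⊗ UU).left ⟶ P := IsOpenImmersion.lift P.ι φ (by rw [P.range_ι]; rfl)
  have hφ' : φ' ≫ P.ι = φ := IsOpenImmersion.lift_fac _ _ _
  haveI : Smooth φ' := by
    have : IsPullback φ' (𝟙 _) P.ι φ := IsPullback.of_horiz_isIso_mono ⟨by simp [hφ']⟩ |>.flip
    exact MorphismProperty.of_isPullback (P := @Smooth) this.flip hφ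
  haveI : Surjective φ' := ⟨fun v => by
    obtain ⟨w, hw⟩ := v.2
    refine ⟨w, P.ι.isOpenEmbedding.injective ?_⟩
    rw [← Scheme.Hom.comp_apply, hφ']
    exact hw⟩
  haveI : Smooth (φ' ≫ P.ι ≫ G.hom) := by
    rw [← Category.assoc, hφ', Over.w ((j ⊗ₘ j) ≫ μ[G])]
    show Smooth ((fst UU UU).left ≫ UU.hom)
    infer_instance
  refine ⟨P, SourceDescent.smooth_of_comp (f := φ') (g := P.ι ≫ G.hom), fun x hx => ?_⟩
  obtain ⟨z, ⟨hz1, hz2⟩, rfl⟩ := subset_mul G U h1 hx
  obtain ⟨w, rfl⟩ : z ∈ Set.range (j ⊗ₘ j).left := by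
    rw [range_tensorHom', show Set.range j.left = U from U.range_ι]; exact ⟨hz1, hz2⟩
  exact ⟨w, Scheme.Hom.comp_apply _ _ _⟩

theorem fibreDimAt_isLocallyConstant_of_smooth {X : Scheme.{u}} (f : X ⟶ S) [Smooth f] :
    IsLocallyConstant (fun x : X => FlatMor.fibreDimAt f x) := by
  have hcm : ∀ x : X, MoreMor.IsCMAt f x := fun x => by
    haveI : Smooth (f.fiberToSpecResidueField (f x)) :=
      inferInstanceAs (Smooth (pullback.snd f (S.fromSpecResidueField (f x))))
    have hreg : IsRegularLocalRing ((f.fiber (f x)).presheaf.stalk (f.asFiber x)) :=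
      SmoothDense.isRegular_of_mem_smoothLocus (k := S.residueField (f x)) (f.fiberToSpecResidueField (f x))
        (by rw [Scheme.Hom.smoothLocus_eq_top]; trivial)
    exact ⟨Flat.stalkMap f x, DepthLib.isCohenMacaulayLocalRing_of_isRegularLocalRing _⟩
  refine (IsLocallyConstant.iff_exists_open _).mpr fun x => ?_
  obtain ⟨n, U, hxU, g, hg, hgf, hgq⟩ := Groth.FlatDescent.CM.exists_toAffineSpace_of_isCMAt f x (hcm x)
  exact ⟨U, U.2, hxU, fun y hy =>
    (Groth.FlatDescent.CM.fibreDimAt_of_toAffineSpace f U g hg ⟨y, hy⟩ (Flat.stalkMap g _)).trans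
      (Groth.FlatDescent.CM.fibreDimAt_of_toAffineSpace f U g hg ⟨x, hxU⟩ (Flat.stalkMap g _)).symm⟩

theorem neutral_open_reduced [IsReduced S] (P : G.left.Opens) (hP : Smooth (P.ι ≫ G.hom))
    (hsub : SGA3x.neutralSet G ⊆ P) : IsOpen (SGA3x.neutralSet G) := by
  let f' := P.ι ≫ G.hom
  let g' : S ⟶ P := IsOpenImmersion.lift P.ι (e1 G) (by
    rw [P.range_ι]; rintro _ ⟨s, rfl⟩; exact hsub (unit_mem G s))
  have w : f' ≫ 𝟙 S = P.ι ≫ G.hom := Category.comp_id _
  have hs : g' ≫ P.ι = 𝟙 S ≫ e1 G := by rw [IsOpenImmersion.lift_fac, Category.id_comp]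
  have hg' : g' ≫ f' = 𝟙 S := by
    show g' ≫ P.ι ≫ G.hom = _
    rw [IsOpenImmersion.lift_fac_assoc, e1_w]
  have hirr : GeomIrred f' g' := fun y => SectionBC.gik_restrict w hs (e1_w G) hg' (geomIrredAt G _)
  have hc : IsLocallyConstant (fun y : S => d0 f' g' y) := by
    have h : (fun y : S => d0 f' g' y) = fun y => FlatMor.fibreDimAt f' (g' y) :=
      funext fun y => (fibreDimAt_section hg' hirr y).symm
    rw [h]
    exact (fibreDimAt_isLocallyConstant_of_smooth f').comp_continuous g'.continuous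
  refine isOpen_iff_forall_mem_open.mpr fun x hx => ?_
  have hX0 : ∀ z : (P : Scheme.{u}), z ∈ X0 f' g' (f' z) ↔ P.ι z ∈ SGA3x.neutralSet G := fun z => by
    rw [SectionBC.mem_X0_restrict_iff w hs (e1_w G) hg' (geomIrredAt G _), mem_iff,
      ← Scheme.Hom.comp_apply]
    exact ⟨fun h => h.2, fun h => ⟨rfl, h⟩⟩
  obtain ⟨V, hV, hxV, hVc⟩ := hc.exists_open (f' ⟨x, hsub hx⟩)
  have hgrk : SectionBC.GRK f' ⟨x, hsub hx⟩ := fun K _ k v _ =>
    isReduced_stalk_of_smooth (pullback.snd f' k) v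
  obtain ⟨-, O, hxO, hO⟩ := SectionBC.flat_and_nhds_of_const hg' hirr (W := ⟨V, hV⟩)
    (fun a ha b hb => (hVc a ha).trans (hVc b hb).symm) hxV ((hX0 _).mpr hx) hgrk
  refine ⟨(P.ι ''ᵁ O : G.left.Opens), ?_, (P.ι ''ᵁ O).isOpen, ⟨_, hxO, rfl⟩⟩
  rintro _ ⟨z, hz, rfl⟩
  exact (hX0 z).mp (hO z hz)

theorem smooth_unit_main (hsm : ∃ U : G.left.Opens, Smooth (U.ι ≫ G.hom) ∧ ∀ p : ↥(𝟙_ (Over S)).left, η[G].left.base p ∈ U) :
    IsOpen (SGA3x.neutralSet G) ∧
    ∃ (G0 : Over S) (_ : GrpObj G0) (i : G0 ⟶ G), IsMonHom i ∧ IsOpenImmersion i.left ∧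
      Set.range i.left.base = SGA3x.neutralSet G ∧ Smooth G0.hom ∧ QuasiCompact G0.hom := by
  obtain ⟨U, hU, h1⟩ := hsm
  obtain ⟨P, hP, hsub⟩ := exists_smooth_open G U hU h1
  -- pass to the reduced base
  let I := Scheme.IdealSheafData.vanishingIdeal (⊤ : Closeds S)
  let r := I.subschemeι
  haveI : IsReduced I.subscheme := GeomUnib.isReduced_vanishing _
  let G' := Red.bc r G
  haveI : Surjective r := ⟨fun s => by
    have : s ∈ Set.range r := by rw [I.range_subschemeι]; trivial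
    exact this⟩
  haveI : IsClosedImmersion (pullback.fst G.hom r) := inferInstance
  haveI : Surjective (pullback.fst G.hom r) := MorphismProperty.pullback_fst G.hom r ‹_›
  have hopen : IsOpen (SGA3x.neutralSet G) := by
    let c := pullback.fst G.hom r
    let P' : G'.left.Opens := c ⁻¹ᵁ P
    have hP' : Smooth (P'.ι ≫ G'.hom) := by
      have h1 : IsPullback (P'.ι) (c ∣_ P) c P.ι := (isPullback_morphismRestrict c P).flip
      have h2 := h1.flip.paste_vert (IsPullback.of_hasPullback G.hom r)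
      exact MorphismProperty.of_isPullback h2 hP
    have h := neutral_open_reduced G' P' hP' (by
      rw [bc_eq]; exact Set.preimage_mono hsub)
    rw [bc_eq] at h
    exact (c.isClosedEmbedding.isInducing.isOpen_iff.mp h).elim fun O hO => by
      exact c.surjective.preimage_injective hO.2 ▸ hO.1
  obtain ⟨G0, J, i, hi, hoi, hr, hqc⟩ := exists_subgroup G hopen
  haveI := hP
  haveI := hoi
  let l : G0.left ⟶ P := IsOpenImmersion.lift P.ι i.left (by rw [P.range_ι, hr]; exact hsub)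
  have hl : l ≫ P.ι = i.left := IsOpenImmersion.lift_fac _ _ _
  haveI : IsOpenImmersion (l ≫ P.ι) := hl.symm ▸ hoi
  haveI : IsOpenImmersion l := IsOpenImmersion.of_comp l P.ι
  haveI hs0 : Smooth G0.hom := by
    rw [← Over.w i, ← hl, Category.assoc]
    infer_instance
  exact ⟨hopen, G0, J, i, hi, hoi, hr, hs0, hqc inferInstance⟩

end Groth.Agent.NeutralSet
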