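import Groth.Agent.NeutralSet.Subgroup
import Groth.Agent.HomogSep.Qs
import Groth.Agent.GrpSchField.Orbit
import Groth.Agent.FibrewiseCrit.Basic

/-!
A group with connected stabiliser and connected orbit is connected.
-/

universe u

open CategoryTheory Limits MonoidalCategory CartesianMonoidalCategory MonObj GrpObj AlgebraicGeometry TopologicalSpace
open Groth.Agent.GeomUnib Groth.Agent.GeomUnib.SectionComp

set_option backward.isDefEq.respectTransparency false
set_option linter.style.haveILetI false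

noncomputable section

namespace Groth.Agent.NeutralSet

variable {k : Type u} [Field k] [IsAlgClosed k] (G : Over (Spec (CommRingCat.of k))) [GrpObj G]

omit [IsAlgClosed k] in
theorem eq_connectedComponent : SGA3x.neutralSet G = connectedComponent (GrpSchField.e G) := by
  have h : ∀ s : Spec (CommRingCat.of k), (G.hom ⁻¹' {s} : Set G.left) = Set.univ := fun s =>
    Set.eq_univ_of_forall fun y => Subsingleton.elim (α := Spec (CommRingCat.of k)) _ _
  ext x
  rw [mem_iff]
  show x ∈ connectedComponentIn (G.hom ⁻¹' {G.hom x}) (e1 G (G.hom x)) ↔ _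
  rw [h, connectedComponentIn_univ, show G.hom x = IsLocalRing.closedPoint k from Subsingleton.elim (α := Spec (CommRingCat.of k)) _ _]
  exact Iff.rfl

variable {X H : Over (Spec (CommRingCat.of k))} [GrpObj H] [LocallyOfFiniteType G.hom]

theorem connectedSpace_of_orbit [LocallyOfFinitePresentation X.hom] [IsReduced X.left] [ConnectedSpace ↥X.left]
    (a : AlgGrp.Action G X) (x₀ : 𝟙_ (Over (Spec (CommRingCat.of k))) ⟶ X) (hsurj : Surjective (a.orbitMap x₀).left)
    (i : H ⟶ G) [IsMonHom i]
    (hH : ∀ (T : Over (Spec (CommRingCat.of k))) (g : T ⟶ G), (∃ h : T ⟶ H, h ≫ i = g) ↔ g ≫ a.orbitMap x₀ = toUnit T ≫ x₀)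
    [ConnectedSpace ↥H.left] : ConnectedSpace ↥G.left := by
  haveI : JacobsonSpace G.left := LocallyOfFiniteType.jacobsonSpace G.hom
  haveI : JacobsonSpace X.left := LocallyOfFiniteType.jacobsonSpace X.hom
  haveI : IsLocallyNoetherian X.left := LocallyOfFiniteType.isLocallyNoetherian X.hom
  haveI : LocallyOfFinitePresentation G.hom := LocallyOfFinitePresentation.iff_locallyOfFiniteType.mpr inferInstance
  let φ := (a.orbitMap x₀).left
  haveI : LocallyOfFinitePresentation (φ ≫ X.hom) := by rw [Over.w (a.orbitMap x₀)]; infer_instance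
  haveI : LocallyOfFinitePresentation φ :=
    FibrewiseCrit.locallyOfFinitePresentation_of_comp φ X.hom inferInstance inferInstance
  -- the orbit map is flat
  haveI : Flat φ := by
    obtain ⟨c, hc⟩ := QuasiSober.sober (isIrreducible_irreducibleComponent (x := x₀.left (IsLocalRing.closedPoint k)))
      isClosed_irreducibleComponent
    have hfield : IsField (X.left.presheaf.stalk c) := isField_stalk_of_closure_mem_irreducibleComponents _ _ (by
      rw [hc.def]; exact irreducibleComponent_mem_irreducibleComponents _)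
    obtain ⟨g, rfl⟩ := hsurj.surj c
    have hflat : (φ.stalkMap g).hom.Flat := by
      let := hfield.toField
      let := (φ.stalkMap g).hom.toAlgebra
      exact RingHom.flat_algebraMap_iff.mpr inferInstance
    exact (Flat.iff_flat_stalkMap _).mpr fun y => GrpSchField.flat_stalkMap_orbitMap a x₀ hflat
      (Subsingleton.elim (α := Spec (CommRingCat.of k)) _ _)
  let C := connectedComponent (GrpSchField.e G)
  have hCo : IsOpen C := by
    rw [show C = GrpSchField.unitComp G from GrpSchField.connectedComponent_eq_unitComp G]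
    exact HomogSep.isOpen_unitComp
  have hdisj : φ '' C ∩ φ '' Cᶜ = ∅ := by
    by_contra hne
    obtain ⟨z, ⟨hz1, hz2⟩, hzc⟩ := nonempty_inter_closedPoints (Z := φ '' C ∩ φ '' Cᶜ) (Set.nonempty_iff_ne_empty.mpr hne)
      ((φ.isOpenMap _ hCo).inter (φ.isOpenMap _ isClosed_connectedComponent.isOpen_compl)).isLocallyClosed
    obtain ⟨g₀, hg₀, rfl⟩ := hz1
    obtain ⟨g₁, hg₁, hg₁'⟩ := hz2
    obtain ⟨p₀, ⟨hp₀C, hp₀z⟩, hp₀⟩ := nonempty_inter_closedPoints (Z := C ∩ φ ⁻¹' {φ g₀}) ⟨g₀, hg₀, rfl⟩
      (isClosed_connectedComponent.inter (hzc.preimage φ.continuous)).isLocallyClosed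
    obtain ⟨p₁, ⟨hp₁C, hp₁z⟩, hp₁⟩ := nonempty_inter_closedPoints (Z := Cᶜ ∩ φ ⁻¹' {φ g₀}) ⟨g₁, hg₁, hg₁'⟩
      (hCo.isClosed_compl.inter (hzc.preimage φ.continuous)).isLocallyClosed
    obtain ⟨s₀, hs₀⟩ := HomogSep.exists_section_of_closed (A := G) hp₀
    obtain ⟨s₁, hs₁⟩ := HomogSep.exists_section_of_closed (A := G) hp₁
    have heq : s₀ ≫ a.orbitMap x₀ = s₁ ≫ a.orbitMap x₀ := by
      apply Over.OverMorphism.ext
      refine ext_of_apply_closedPoint_eq X.hom (Over.w _) (Over.w _) ?_
      rw [Over.comp_left, Over.comp_left, Scheme.Hom.comp_apply, Scheme.Hom.comp_apply]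
      exact ((congrArg φ hs₀).trans (hp₀z.trans hp₁z.symm)).trans (congrArg φ hs₁).symm
    have horb : ∀ g : 𝟙_ (Over (Spec (CommRingCat.of k))) ⟶ G, g ≫ a.orbitMap x₀ = lift g x₀ ≫ a.act := fun g => by
      rw [AlgGrp.Action.orbitMap, ← Category.assoc, comp_lift, Category.comp_id, ← Category.assoc,
        toUnit_unique (g ≫ toUnit G) (𝟙 _), Category.id_comp]
    obtain ⟨h, hh⟩ := (hH _ (s₀⁻¹ * s₁)).mpr (by
      rw [horb, toUnit_unique (toUnit _) (𝟙 _), Category.id_comp, GrpSchField.lift_act_mul, ← horb, ← heq, horb,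
        ← GrpSchField.lift_act_mul, inv_mul_cancel, GrpSchField.lift_act_one])
    have hd : (s₀⁻¹ * s₁).left (IsLocalRing.closedPoint k) ∈ SGA3x.neutralSet G := by
      rw [eq_connectedComponent, ← hh, Over.comp_left, Scheme.Hom.comp_apply]
      refine (isPreconnected_range i.left.continuous).subset_connectedComponent ⟨GrpSchField.e H, ?_⟩ ⟨_, rfl⟩
      rw [← Scheme.Hom.comp_apply]
      show (η[H] ≫ i).left _ = _
      rw [IsMonHom.one_hom i]
    apply hp₁C
    show p₁ ∈ C
    rw [show C = SGA3x.neutralSet G from (eq_connectedComponent G).symm, ← hs₁,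
      show s₁ = s₀ * (s₀⁻¹ * s₁) from (mul_inv_cancel_left s₀ s₁).symm]
    show (s₀ * (s₀⁻¹ * s₁)).left (IsLocalRing.closedPoint k) ∈ _
    rw [Hom.mul_def, Over.comp_left, Scheme.Hom.comp_apply]
    refine mul_mem G ?_ ?_
    · rw [← Scheme.Hom.comp_apply, ← Over.comp_left, lift_fst, show s₀.left _ = p₀ from hs₀, eq_connectedComponent]
      exact hp₀C
    · rw [← Scheme.Hom.comp_apply, ← Over.comp_left, lift_snd]
      exact hd
  have hall : φ '' Cᶜ = ∅ := by
    have hcov : φ '' C ∪ φ '' Cᶜ = Set.univ := by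
      rw [← Set.image_union, Set.union_compl_self, Set.image_univ, Set.range_eq_univ]
      exact hsurj.surj
    have hcl : IsClopen (φ '' C) := ⟨⟨by
      rw [show (φ '' C)ᶜ = φ '' Cᶜ from
        (IsCompl.compl_eq ⟨Set.disjoint_iff_inter_eq_empty.mpr hdisj, codisjoint_iff.mpr hcov⟩)]
      exact φ.isOpenMap _ isClosed_connectedComponent.isOpen_compl⟩, φ.isOpenMap _ hCo⟩
    have huniv := hcl.eq_univ ⟨_, GrpSchField.e G, mem_connectedComponent, rfl⟩
    rw [huniv, Set.univ_inter] at hdisj
    exact hdisj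
  rw [Set.image_eq_empty, Set.compl_empty_iff] at hall
  exact connectedSpace_iff_connectedComponent.mpr ⟨GrpSchField.e G, hall⟩

end Groth.Agent.NeutralSet
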