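import Groth.Agent.NeutralSet.Constr
import Groth.Agent.ProConsLib.Basic

/-!
Power maps and the neutral set over a locally noetherian base.
-/

universe u

open CategoryTheory Limits MonoidalCategory CartesianMonoidalCategory MonObj GrpObj AlgebraicGeometry TopologicalSpace
open Groth.Agent.GeomUnib Topology

set_option backward.isDefEq.respectTransparency false
set_option linter.style.haveILetI false

noncomputable section

namespace Groth.Agent.NeutralSet

theorem isLocallyConstructible_preimage {X Y : Scheme.{u}} (f : X ⟶ Y) {s : Set Y} (hs : IsLocallyConstructible s) :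
    IsLocallyConstructible (f ⁻¹' s) := by
  refine IsLocallyConstructible.of_isOpenCover
    (U := fun W : {W : X.affineOpens // ∃ V : Y.affineOpens, W.1 ≤ f ⁻¹ᵁ V.1} => W.1.1) ?_ fun W => ?_
  · refine IsOpenCover.mk (top_le_iff.mp fun x _ => ?_)
    obtain ⟨V, hV, hxV, -⟩ := exists_isAffineOpen_mem_and_subset (U := (⊤ : Y.Opens)) (x := f x) trivial
    obtain ⟨W, hW, hxW, hWV⟩ := exists_isAffineOpen_mem_and_subset (U := f ⁻¹ᵁ V) (x := x) hxV
    exact Opens.mem_iSup.mpr ⟨⟨⟨W, hW⟩, ⟨V, hV⟩, hWV⟩, hxW⟩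
  · obtain ⟨V, hWV⟩ := W.2
    haveI : IsAffine (V.1 : Scheme.{u}) := V.2
    haveI : IsAffine (W.1.1 : Scheme.{u}) := W.1.2
    have h : IsConstructible (V.1.ι ⁻¹' s) := (hs.preimage_of_isOpenEmbedding V.1.ι.isOpenEmbedding).isConstructible
    have h' := ((f.resLE V.1 W.1.1 hWV).isConstructible_preimage h).isLocallyConstructible
    refine cast (congrArg IsLocallyConstructible ?_) h'
    ext x
    show V.1.ι ((f.resLE V.1 W.1.1 hWV) x) ∈ s ↔ f x.1 ∈ s
    rw [show V.1.ι ((f.resLE V.1 W.1.1 hWV) x) = f x.1 from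
      (Scheme.Hom.comp_apply _ _ x).symm.trans ((congrArg (fun m => m x) (Scheme.Hom.resLE_comp_ι f hWV)).trans
        (Scheme.Hom.comp_apply _ _ x))]

variable {S : Scheme.{u}} [IsLocallyNoetherian S] (G : Over S) [GrpObj G] [LocallyOfFiniteType G.hom]

theorem isLocallyConstructible_exact_order (n : ℕ) :
    IsLocallyConstructible {x : ↥G.left | ((𝟙 G : G ⟶ G) ^ n).left x ∈ SGA3x.neutralSet G ∧
      ∀ d : ℕ, 0 < d → d < n → ((𝟙 G : G ⟶ G) ^ d).left x ∉ SGA3x.neutralSet G} := by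
  haveI : LocallyOfFinitePresentation G.hom := LocallyOfFinitePresentation.iff_locallyOfFiniteType.mpr inferInstance
  haveI : IsLocallyNoetherian G.left := LocallyOfFiniteType.isLocallyNoetherian G.hom
  haveI : QuasiSeparated G.hom := QuasiSeparated.of_comp G.hom (terminal.from S)
  have hW := isLocallyConstructible_qs G
  have h : {x : ↥G.left | ((𝟙 G : G ⟶ G) ^ n).left x ∈ SGA3x.neutralSet G ∧
      ∀ d : ℕ, 0 < d → d < n → ((𝟙 G : G ⟶ G) ^ d).left x ∉ SGA3x.neutralSet G} =
      ((𝟙 G : G ⟶ G) ^ n).left ⁻¹' SGA3x.neutralSet G ∩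
        ⋂ d : Fin n, if (0 : ℕ) < d then (((𝟙 G : G ⟶ G) ^ (d : ℕ)).left ⁻¹' SGA3x.neutralSet G)ᶜ else Set.univ := by
    ext x
    simp only [Set.mem_setOf_eq, Set.mem_inter_iff, Set.mem_preimage, Set.mem_iInter]
    refine and_congr_right fun _ => ⟨fun h d => ?_, fun h d h0 hd => ?_⟩
    · split_ifs with h0
      · exact h d h0 d.2
      · trivial
    · have := h ⟨d, hd⟩
      rw [if_pos h0] at this
      exact this
  rw [h]
  refine (isLocallyConstructible_preimage _ hW).inter (IsLocallyConstructible.iInter fun d => ?_)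
  split_ifs
  · exact ProConsLib.isLocallyConstructible_compl (isLocallyConstructible_preimage _ hW)
  · exact IsLocallyConstructible.univ

theorem image_mem_nhds
    (hopen : ∀ (S' : Scheme.{u}) (g : S' ⟶ S) (x' : ↥(Red.bc g G).left), x' ∈ SGA3x.neutralSet (Red.bc g G) →
      ∀ U : Set ↥(Red.bc g G).left, IsOpen U → x' ∈ U →
        (Red.bc g G).hom.base '' U ∈ nhds ((Red.bc g G).hom.base x'))
    {S' : Scheme.{u}} (g : S' ⟶ S) (x' : ↥(Red.bc g G).left)
    (hx' : x' ∈ SGA3x.neutralSet (Red.bc g G))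
    (U : Set ↥(Red.bc g G).left) (hU : IsOpen U) (hxU : x' ∈ U) :
    (Red.bc g G).hom '' (U ∩ SGA3x.neutralSet (Red.bc g G)) ∈ nhds ((Red.bc g G).hom x') := by
  haveI : LocallyOfFinitePresentation G.hom := LocallyOfFinitePresentation.iff_locallyOfFiniteType.mpr inferInstance
  have huo : ∀ x ∈ SGA3x.neutralSet G, EGA43.IsUnivOpenAt G.hom x := by
    intro x hx Y' gY z hz N hN
    obtain ⟨O, hON, hO, hzO⟩ := mem_nhds_iff.mp hN
    refine Filter.mem_of_superset (hopen Y' gY z ?_ O hO hzO) (Set.image_mono hON)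
    rw [bc_eq]
    show pullback.fst G.hom gY z ∈ SGA3x.neutralSet G
    rw [hz]
    exact hx
  have hdim : IsLocallyConstant (fun s : S => topologicalKrullDim ↥(G.hom.base ⁻¹' {s})) := by
    refine (IsLocallyConstant.iff_eventually_eq _).mpr fun s => ?_
    obtain ⟨V, hV, hVc⟩ := (univOpen_iff G s).2.mp (fun (x : ↥G.left) (hx : x ∈ SGA3x.neutralSet G ∩ G.hom.base ⁻¹' {s}) => huo x hx.1)
    exact Filter.mem_of_superset hV hVc
  rw [bc_eq] at hx' ⊢
  exact (isOpen_image G (Over.mk g) hdim hU).mem_nhds ⟨x', ⟨hxU, hx'⟩, rfl⟩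

end Groth.Agent.NeutralSet
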