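import Groth.Agent.NeutralSet.Constr
import Groth.Agent.ProConsLib.Basic
import Groth.Agent.S3403
import Groth.Agent.S4447

/-!
An ind-constructible set whose "points with image in it" functor is representable is open.
-/

universe u

open CategoryTheory Limits AlgebraicGeometry TopologicalSpace Topology

set_option backward.isDefEq.respectTransparency false
set_option linter.style.haveILetI false

noncomputable section

namespace Groth.Agent.Represent

/-- in a valuation ring, an ind-constructible set containing the closed point but not a given prime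
contains all the primes above some prime outside it -/
theorem exists_sup_compl {A : Type u} [CommRing A] [IsDomain A] [ValuationRing A] {E : Set (PrimeSpectrum A)}
    (hE : IsOpen[constructibleTopology (PrimeSpectrum A)] E) {P₀ : PrimeSpectrum A} (hP₀ : P₀ ∉ E) :
    ∃ Q : PrimeSpectrum A, Q ∉ E ∧ ∀ P, P ∉ E → P.asIdeal ≤ Q.asIdeal := by
  classical
  let R : Set (Ideal A) := PrimeSpectrum.asIdeal '' Eᶜ
  have hne : R.Nonempty := ⟨_, P₀, hP₀, rfl⟩
  have htot : ∀ I J : Ideal A, I ≤ J ∨ J ≤ I := (inferInstance : @Std.Total (Ideal A) (· ≤ ·)).total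
  have hdir : DirectedOn (· ≤ ·) R := fun I hI J hJ =>
    (htot I J).elim (fun h => ⟨J, hJ, h, le_rfl⟩) fun h => ⟨I, hI, le_rfl, h⟩
  let q : Ideal A := sSup R
  have hmem : ∀ a, a ∈ q ↔ ∃ P ∉ E, a ∈ P.asIdeal := fun a => by
    rw [Submodule.mem_sSup_of_directed hne hdir]
    exact ⟨fun ⟨_, ⟨P, hP, rfl⟩, h⟩ => ⟨P, hP, h⟩, fun ⟨P, hP, h⟩ => ⟨_, ⟨P, hP, rfl⟩, h⟩⟩
  haveI hq : q.IsPrime := by
    refine Ideal.isPrime_iff.2 ⟨fun h => ?_, fun {a b} hab => ?_⟩
    · obtain ⟨P, -, hP⟩ := (hmem 1).1 (h ▸ Submodule.mem_top)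
      exact P.2.ne_top ((Ideal.eq_top_iff_one _).2 hP)
    · obtain ⟨P, hP, hP'⟩ := (hmem _).1 hab
      exact (P.2.mem_or_mem hP').imp (fun h => (hmem a).2 ⟨P, hP, h⟩) fun h => (hmem b).2 ⟨P, hP, h⟩
  refine ⟨⟨q, hq⟩, fun hQ => ?_, fun P hP a ha => (hmem a).2 ⟨P, hP, ha⟩⟩
  obtain ⟨K, L, hKo, -, hLo, hLc, ⟨hQK, hQL⟩, hsub⟩ := SpecSp.exists_basic_of_isOpen_cons hE hQ
  obtain ⟨t, ht⟩ := hLc.elim_finite_subcover (fun a : {a // a ∈ q} => (PrimeSpectrum.basicOpen a.1 : Set (PrimeSpectrum A)))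
    (fun a => (PrimeSpectrum.basicOpen a.1).isOpen) (fun p hp => by
      have h : ¬ q ≤ p.asIdeal := fun h => hQL (((PrimeSpectrum.le_iff_specializes ⟨q, hq⟩ p).1 h).mem_open hLo hp)
      obtain ⟨a, ha, ha'⟩ := SetLike.not_le_iff_exists.1 h
      exact Set.mem_iUnion.2 ⟨⟨a, ha⟩, ha'⟩)
  have key : ∀ s : Finset {a // a ∈ q}, ∃ P ∉ E, ∀ a ∈ s, a.1 ∈ P.asIdeal := by
    intro s
    induction s using Finset.induction_on with
    | empty => exact ⟨P₀, hP₀, by simp⟩
    | insert a s _ ih =>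
      obtain ⟨P, hP, hPs⟩ := ih
      obtain ⟨P', hP', hb⟩ := (hmem _).1 a.2
      rcases htot P.asIdeal P'.asIdeal with h | h
      · exact ⟨P', hP', fun c hc => (Finset.mem_insert.1 hc).elim (fun e => e ▸ hb) fun hc => h (hPs c hc)⟩
      · exact ⟨P, hP, fun c hc => (Finset.mem_insert.1 hc).elim (fun e => e ▸ h hb) fun hc => hPs c hc⟩
  obtain ⟨P, hP, hPt⟩ := key t
  refine hP (hsub ⟨?_, fun hPL => ?_⟩)
  · exact ((PrimeSpectrum.le_iff_specializes P ⟨q, hq⟩).1 fun a ha => (hmem a).2 ⟨P, hP, ha⟩).mem_open hKo hQK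
  · obtain ⟨a, hat, ha⟩ := Set.mem_iUnion₂.1 (ht hPL)
    exact ha (hPt a hat)

/-- if all the morphisms with image in an ind-constructible `N` factor through a monomorphism with image
in `N`, then `N` is open -/
theorem isOpen_of_factor {X Z : Scheme.{u}} (i : Z ⟶ X) [Mono i] {N : Set X}
    (hN : ProCons.IsIndConstructible N) (hsub : Set.range i ⊆ N)
    (hfac : ∀ (T : Scheme.{u}) (g : T ⟶ X), Set.range g ⊆ N → ∃ z, z ≫ i = g) : IsOpen N := by
  classical
  refine interior_eq_iff_isOpen.1 (subset_antisymm interior_subset fun x hx => ?_)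
  refine (Groth.Agent.S3403.result X N hN x).2 fun y hyx => ?_
  by_contra hy
  obtain ⟨A, h, -, hc, hgen⟩ := Groth.Agent.S4447.result (𝟙 X) y x hyx (fun e => hy (by rwa [e] at hx))
  let E : Set (PrimeSpectrum A) := h ⁻¹' N
  have hE : IsOpen[constructibleTopology (PrimeSpectrum A)] E := by
    let U : (Spec (CommRingCat.of A)).affineOpens := ⟨⊤, isAffineOpen_top _⟩
    let f : PrimeSpectrum A → ↥U.1 := fun p => ⟨p, trivial⟩
    haveI : SpectralSpace ↥U.1 := ProConsLib.spectralSpace_affine U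
    have hf : Continuous f := by fun_prop
    have hsp : IsSpectralMap f := ⟨hf, fun s ho hc => by
      have : f ⁻¹' s = Subtype.val '' s := by
        ext p; exact ⟨fun h => ⟨⟨p, trivial⟩, h, rfl⟩, by rintro ⟨⟨q, _⟩, hq, rfl⟩; exact hq⟩
      rw [this]
      exact hc.image continuous_subtype_val⟩
    exact @IsOpen.preimage _ _ (constructibleTopology _) (constructibleTopology _) _
      (SpecSp.continuous_cons_of_isSpectralMap hsp) _ (ProConsLib.isInd_iff.1 (ProConsLib.isInd_preimage h hN) U)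
  let P₀ : PrimeSpectrum A := Spec.map (CommRingCat.ofHom A.subtype) (IsLocalRing.closedPoint (X.residueField y))
  have hP₀ : P₀ ∉ E := by
    show h P₀ ∉ N
    rw [← Scheme.Hom.comp_apply, hgen, Category.comp_id]
    exact fun h' => hy ((X.fromSpecResidueField_apply y _) ▸ h')
  obtain ⟨Q, hQ, hsup⟩ := exists_sup_compl hE hP₀
  have hcl : IsLocalRing.closedPoint A ∈ E := show h (IsLocalRing.closedPoint A) ∈ N from hc ▸ hx
  obtain ⟨c, hcm, hcQ⟩ : ∃ c ∈ IsLocalRing.maximalIdeal A, c ∉ Q.asIdeal := by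
    by_contra hno
    push Not at hno
    exact hQ ((PrimeSpectrum.ext (le_antisymm hno (IsLocalRing.le_maximalIdeal Q.2.ne_top)) :
      IsLocalRing.closedPoint A = Q) ▸ hcl)
  let ι := {g : A // g ∈ IsLocalRing.maximalIdeal A ∧ g ∉ Q.asIdeal}
  let π : ∀ g : ι, A →+* A ⧸ Ideal.span {g.1} := fun g => Ideal.Quotient.mk _
  let T : ι → Scheme.{u} := fun g => Spec (CommRingCat.of (A ⧸ Ideal.span {g.1}))
  let t : ∀ g : ι, T g ⟶ X := fun g => Spec.map (CommRingCat.ofHom (π g)) ≫ h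
  have ht : ∀ g, ∃ z, z ≫ i = t g := fun g => hfac _ _ (by
    rintro _ ⟨p, rfl⟩
    rw [Scheme.Hom.comp_apply]
    by_contra hp
    have hle := hsup (Spec.map (CommRingCat.ofHom (π g)) p) hp
    refine g.2.2 (hle ?_)
    show π g g.1 ∈ p.asIdeal
    rw [show π g g.1 = 0 from Ideal.Quotient.eq_zero_iff_mem.2 (Ideal.mem_span_singleton_self _)]
    exact Ideal.zero_mem _)
  choose z hz using ht
  obtain ⟨z₀, hz₀⟩ : ∃ z₀, i z₀ = x := by
    let K := X.residueField x
    obtain ⟨w, hw⟩ := hfac (Spec (X.residueField x)) (X.fromSpecResidueField x)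
      (by rw [X.range_fromSpecResidueField]; exact Set.singleton_subset_iff.2 hx)
    exact ⟨w (IsLocalRing.closedPoint _), by rw [← Scheme.Hom.comp_apply, hw, Scheme.fromSpecResidueField_apply]⟩
  obtain ⟨W, hW, hxW, -⟩ := exists_isAffineOpen_mem_and_subset (U := (⊤ : X.Opens)) (x := x) trivial
  obtain ⟨U, hU, hzU, hUW⟩ := exists_isAffineOpen_mem_and_subset (U := i ⁻¹ᵁ W) (x := z₀)
    (show i z₀ ∈ W from hz₀ ▸ hxW)
  -- lifts to the affine neighbourhood
  have hzrange : ∀ g, Set.range (z g) ⊆ Set.range hU.fromSpec := by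
    intro g
    rw [hU.range_fromSpec]
    rintro _ ⟨p, rfl⟩
    haveI : Nontrivial (A ⧸ Ideal.span {g.1}) := Ideal.Quotient.nontrivial_iff.2
      (fun e => IsLocalRing.maximalIdeal.isMaximal A |>.ne_top (top_unique (e ▸ (Ideal.span_singleton_le_iff_mem _).2 g.2.1)))
    haveI : IsLocalRing (A ⧸ Ideal.span {g.1}) := IsLocalRing.of_surjective' (π g) Ideal.Quotient.mk_surjective
    haveI : IsLocalHom (π g) := IsLocalHom.of_surjective _ Ideal.Quotient.mk_surjective
    have hzc : z g (IsLocalRing.closedPoint _) = z₀ := by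
      apply i.injective
      rw [hz₀, ← Scheme.Hom.comp_apply, hz, Scheme.Hom.comp_apply]
      show h _ = x
      rw [show Spec.map (CommRingCat.ofHom (π g)) (IsLocalRing.closedPoint _) = IsLocalRing.closedPoint A from
        IsLocalRing.comap_closedPoint (π g), hc]
    exact ((IsLocalRing.specializes_closedPoint p).map (z g).continuous).mem_open U.2 (hzc ▸ hzU)
  let φ : ∀ g : ι, Γ(Z, U) ⟶ CommRingCat.of (A ⧸ Ideal.span {g.1}) := fun g =>
    Spec.preimage (IsOpenImmersion.lift hU.fromSpec (z g) (hzrange g))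
  have hφ : ∀ g, Spec.map (φ g) ≫ hU.fromSpec = z g := fun g => by
    rw [Spec.map_preimage, IsOpenImmersion.lift_fac]
  let P := ∀ g : ι, A ⧸ Ideal.span {g.1}
  let Φ : Γ(Z, U) ⟶ CommRingCat.of P := CommRingCat.ofHom (RingHom.pi fun g => (φ g).hom)
  let πP : CommRingCat.of A ⟶ CommRingCat.of P := CommRingCat.ofHom (RingHom.pi π)
  have hiW : Set.range (hU.fromSpec ≫ i) ⊆ Set.range hW.fromSpec := by
    rw [hW.range_fromSpec]
    rintro _ ⟨p, rfl⟩
    rw [Scheme.Hom.comp_apply]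
    exact hUW (hU.range_fromSpec.le ⟨p, rfl⟩)
  have hhW : Set.range h ⊆ Set.range hW.fromSpec := by
    rw [hW.range_fromSpec]
    rintro _ ⟨p, rfl⟩
    exact ((IsLocalRing.specializes_closedPoint p).map h.continuous).mem_open W.2 (hc ▸ hxW)
  obtain ⟨θ, hθ⟩ := Spec.map_surjective (IsOpenImmersion.lift hW.fromSpec (hU.fromSpec ≫ i) hiW)
  obtain ⟨ψ, hψ⟩ := Spec.map_surjective (IsOpenImmersion.lift hW.fromSpec h hhW)
  have hθ' : Spec.map θ ≫ hW.fromSpec = hU.fromSpec ≫ i := by rw [hθ, IsOpenImmersion.lift_fac]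
  have hψ' : Spec.map ψ ≫ hW.fromSpec = h := by rw [hψ, IsOpenImmersion.lift_fac]
  have heq : θ ≫ Φ = ψ ≫ πP := by
    refine CommRingCat.hom_ext (RingHom.ext fun a => funext fun g => ?_)
    have : θ ≫ φ g = ψ ≫ CommRingCat.ofHom (π g) := by
      apply Spec.map_injective
      rw [← cancel_mono hW.fromSpec, Spec.map_comp, Spec.map_comp, Category.assoc, Category.assoc, hθ', hψ',
        ← Category.assoc, hφ, hz]
    exact congrArg (fun m : _ ⟶ CommRingCat.of (A ⧸ Ideal.span {g.1}) => m.hom a) this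
  -- the prime `Q` survives in the product
  have hker : RingHom.ker πP.hom = Q.asIdeal := by
    ext a
    rw [RingHom.mem_ker]
    constructor
    · intro ha
      by_contra haQ
      have hg : a * c ∈ IsLocalRing.maximalIdeal A ∧ a * c ∉ Q.asIdeal :=
        ⟨Ideal.mul_mem_left _ _ hcm, fun h => (Q.2.mem_or_mem h).elim haQ hcQ⟩
      have h1 : π ⟨a * c, hg⟩ a = 0 := congrFun ha ⟨a * c, hg⟩
      obtain ⟨r, hr⟩ := Ideal.mem_span_singleton.1 (Ideal.Quotient.eq_zero_iff_mem.1 h1)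
      have h2 : a * (1 - c * r) = 0 := by rw [mul_sub, mul_one, ← mul_assoc, ← hr, sub_self]
      rcases mul_eq_zero.1 h2 with h3 | h3
      · exact haQ (h3 ▸ Ideal.zero_mem _)
      · exact (IsLocalRing.maximalIdeal.isMaximal A).ne_top ((Ideal.eq_top_iff_one _).2
          (sub_eq_zero.1 h3 ▸ Ideal.mul_mem_right _ _ hcm))
    · intro ha
      refine funext fun g => Ideal.Quotient.eq_zero_iff_mem.2 (Ideal.mem_span_singleton.2 ?_)
      rcases ValuationRing.dvd_total g.1 a with hd | ⟨r, hr⟩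
      · exact hd
      · exact absurd (hr ▸ Ideal.mul_mem_right r _ ha) g.2.2
  obtain ⟨P', hP', -, hPc⟩ := Ideal.exists_comap_eq_of_mem_minimalPrimes (I := (⊥ : Ideal P)) πP.hom Q.asIdeal (by
    rw [← RingHom.ker_eq_comap_bot, hker, Ideal.minimalPrimes_eq_subsingleton_self]
    exact rfl)
  let p' : Spec (CommRingCat.of P) := ⟨P', hP'⟩
  apply hQ
  show h Q ∈ N
  have hQ' : Spec.map πP p' = Q := PrimeSpectrum.ext hPc
  rw [← hQ', ← Scheme.Hom.comp_apply, ← hψ', ← Category.assoc, ← Spec.map_comp, ← heq, Spec.map_comp,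
    Category.assoc, hθ']
  exact hsub ⟨_, ((Scheme.Hom.comp_apply _ _ _).trans (Scheme.Hom.comp_apply _ _ _)).symm⟩

end Groth.Agent.Represent

namespace Groth.Agent.NeutralSet

open CategoryTheory MonoidalCategory CartesianMonoidalCategory MonObj GrpObj AlgebraicGeometry

/-- a representable neutral component subfunctor is the open subscheme on the neutral set -/
theorem representable_openImmersion {S : Scheme.{u}} (G : Over S) [GrpObj G] [LocallyOfFinitePresentation G.hom]
    (G0 : Over S) (i : G0 ⟶ G) [Mono i]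
    (hrep : ∀ (T : Over S) (g : T ⟶ G), (∃ z : T ⟶ G0, z ≫ i = g) ↔ Set.range g.left ⊆ SGA3x.neutralSet G) :
    IsOpen (SGA3x.neutralSet G) ∧ IsOpenImmersion i.left ∧ Set.range i.left = SGA3x.neutralSet G := by
  have hsub : Set.range i.left ⊆ SGA3x.neutralSet G := (hrep G0 i).1 ⟨𝟙 _, Category.id_comp i⟩
  haveI : Mono i.left := inferInstance
  have hopen : IsOpen (SGA3x.neutralSet G) := Groth.Agent.Represent.isOpen_of_factor i.left (isIndConstructible G) hsub
    fun T g hg => by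
      obtain ⟨z, hz⟩ := (hrep (Over.mk (g ≫ G.hom)) (Over.homMk g rfl)).2 hg
      exact ⟨z.left, congrArg Over.Hom.left hz⟩
  let O : G.left.Opens := ⟨_, hopen⟩
  let j : Over.mk (O.ι ≫ G.hom) ⟶ G := Over.homMk O.ι rfl
  obtain ⟨z, hz⟩ := (hrep _ j).2 O.range_ι.le
  let w := IsOpenImmersion.lift O.ι i.left (hsub.trans O.range_ι.ge)
  have hw : w ≫ O.ι = i.left := IsOpenImmersion.lift_fac _ _ _
  have hz' : z.left ≫ i.left = O.ι := congrArg Over.Hom.left hz
  haveI : IsIso w := ⟨z.left, by rw [← cancel_mono i.left, Category.assoc, hz', hw, Category.id_comp],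
    by rw [← cancel_mono O.ι, Category.assoc, hw, hz', Category.id_comp]⟩
  haveI : IsOpenImmersion i.left := hw ▸ inferInstance
  refine ⟨hopen, inferInstance, subset_antisymm hsub fun x hx => ?_⟩
  exact ⟨z.left ⟨x, hx⟩, by rw [← Scheme.Hom.comp_apply, hz']; rfl⟩

end Groth.Agent.NeutralSet
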