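import Groth.Agent.NeutralSet.Torsion
import Groth.Agent.NeutralSet.Power
import Groth.Agent.GrpSchField.ClosedImage

/-!
Points with a power of exponent `p ^ h` in the neutral set: openness when the other power maps are open.
-/

set_option autoImplicit false
set_option backward.isDefEq.respectTransparency false
set_option linter.style.haveILetI false
universe u
open CategoryTheory CategoryTheory.Limits MonoidalCategory CartesianMonoidalCategory MonObj GrpObj AlgebraicGeometry
open TopologicalSpace Topology Groth.Agent.FibreDim Groth.Agent.GeomUnib Groth.Agent.GeomUnib.SectionComp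

noncomputable section

namespace Groth.Agent.NeutralSet

/-- a generization stable set containing a neighbourhood of each of its points in the closure of that point is open -/
theorem isOpen_of_stable {X : Scheme.{u}} [IsLocallyNoetherian X] {E : Set X} (hg : StableUnderGeneralization E)
    (hloc : ∀ x ∈ E, ∃ O : Set X, IsOpen O ∧ x ∈ O ∧ O ∩ closure {x} ⊆ E) : IsOpen E := by
  refine isOpen_iff_forall_mem_open.mpr fun x hx => ?_
  obtain ⟨W, hW, hxW, -⟩ := exists_isAffineOpen_mem_and_subset (U := (⊤ : X.Opens)) (x := x) trivial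
  haveI : IsAffine (W : Scheme.{u}) := hW
  haveI : IsNoetherian (W : Scheme.{u}) := {}
  let F : Set (W : Scheme.{u}) := W.ι ⁻¹' Eᶜ
  suffices hF : IsClosed F by
    refine ⟨W.ι '' Fᶜ, ?_, W.ι.isOpenEmbedding.isOpenMap _ hF.isOpen_compl, ⟨⟨x, hxW⟩, fun h => h hx, rfl⟩⟩
    rintro _ ⟨z, hz, rfl⟩
    exact not_not.mp hz
  refine isClosed_of_closure_subset fun z hz => ?_
  haveI : NoetherianSpace ↥(closure F) := NoetherianSpace.set _
  have hfin : (irreducibleComponents ↥(closure F)).Finite := NoetherianSpace.finite_irreducibleComponents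
  haveI : QuasiSober ↥(closure F) := isClosed_closure.isClosedEmbedding_subtypeVal.quasiSober
  let Z := irreducibleComponent (⟨z, hz⟩ : ↥(closure F))
  obtain ⟨c, hc⟩ := QuasiSober.sober (isIrreducible_irreducibleComponent (x := (⟨z, hz⟩ : ↥(closure F)))) isClosed_irreducibleComponent
  have hcz : (c : (W : Scheme.{u})) ⤳ z := (hc.specializes mem_irreducibleComponent).map continuous_subtype_val
  by_contra hzF
  have hzE : W.ι z ∈ E := not_not.mp hzF
  have hcE : W.ι (c : (W : Scheme.{u})) ∈ E := hg (hcz.map W.ι.continuous) hzE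
  obtain ⟨O, hO, hcO, hOE⟩ := hloc _ hcE
  let C : Set ↥(closure F) := ⋃ Z' ∈ irreducibleComponents ↥(closure F) \ {Z}, Z'
  have hC : IsClosed C := (hfin.subset Set.sdiff_subset).isClosed_biUnion
    fun Z' hZ' => isClosed_of_mem_irreducibleComponents Z' hZ'.1
  have hcC : c ∉ C := by
    intro h
    obtain ⟨Z', ⟨hZ', hne⟩, hcZ'⟩ := Set.mem_iUnion₂.mp h
    have hsub : Z ⊆ Z' := by
      show irreducibleComponent _ ⊆ Z'
      rw [← hc.def]
      exact (isClosed_of_mem_irreducibleComponents Z' hZ').closure_subset_iff.mpr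
        (Set.singleton_subset_iff.mpr hcZ')
    exact hne (Set.eq_of_subset_of_subset ((irreducibleComponent_mem_irreducibleComponents _).2 hZ'.1 hsub) hsub)
  obtain ⟨O', hO', hO'C⟩ := isOpen_induced_iff.mp hC.isOpen_compl
  obtain ⟨w, ⟨hw1, hw2⟩, hwF⟩ := mem_closure_iff.mp c.2 (W.ι ⁻¹' O ∩ O')
    ((hO.preimage W.ι.continuous).inter hO') ⟨hcO, (Set.ext_iff.mp hO'C c).mpr hcC⟩
  refine hwF (hOE ⟨hw1, ?_⟩)
  have hwC : (⟨w, subset_closure hwF⟩ : ↥(closure F)) ∈ Z := by
    by_contra hwZ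
    refine (Set.ext_iff.mp hO'C ⟨w, subset_closure hwF⟩).mp hw2 (Set.mem_biUnion ⟨irreducibleComponent_mem_irreducibleComponents _, ?_⟩
      mem_irreducibleComponent)
    exact fun he => hwZ (Set.eq_of_mem_singleton he ▸ mem_irreducibleComponent)
  exact specializes_iff_mem_closure.mp (((hc.specializes hwC).map continuous_subtype_val).map W.ι.continuous)

/-- a point over an algebraically closed field lifts along a map when some preimage lies in an open -/
theorem exists_lift_point {S : Scheme.{u}} {A B : Over S} (f : A ⟶ B) [LocallyOfFiniteType f.left] {K : Type u}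
    [Field K] [IsAlgClosed K] {t : Spec (CommRingCat.of K) ⟶ S} (g : Over.mk t ⟶ B) (O : A.left.Opens)
    {a : A.left} (ha : a ∈ O) (hfa : f.left a = g.left (IsLocalRing.closedPoint K)) :
    ∃ h : Over.mk t ⟶ A, h ≫ f = g ∧ h.left (IsLocalRing.closedPoint K) ∈ O := by
  obtain ⟨p, hp, -⟩ := Scheme.Pullback.exists_preimage_pullback (f := f.left) (g := g.left) a
    (IsLocalRing.closedPoint K) hfa
  let P := pullback f.left g.left
  let U : P.Opens := pullback.fst f.left g.left ⁻¹ᵁ O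
  have hpU : p ∈ U := show pullback.fst f.left g.left p ∈ O from hp ▸ ha
  haveI : JacobsonSpace (Over.mk t).left := inferInstanceAs (JacobsonSpace (Spec (CommRingCat.of K)))
  haveI : LocallyOfFiniteType (pullback.snd f.left g.left) := inferInstance
  haveI : JacobsonSpace P := LocallyOfFiniteType.jacobsonSpace (pullback.snd f.left g.left)
  obtain ⟨q, hqU, hq⟩ := nonempty_inter_closedPoints ⟨p, hpU⟩ U.isOpen.isLocallyClosed
  let σ := pointOfClosedPoint (K := K) (pullback.snd f.left g.left) q hq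
  have hσ : σ ≫ pullback.snd f.left g.left = 𝟙 _ := pointOfClosedPoint_comp _ q hq
  refine ⟨Over.homMk (σ ≫ pullback.fst f.left g.left) ?_, Over.OverMorphism.ext ?_, ?_⟩
  · show (σ ≫ pullback.fst f.left g.left) ≫ A.hom = t
    rw [← Over.w f, Category.assoc, pullback.condition_assoc, ← Category.assoc, hσ, Category.id_comp]
    exact Over.w g
  · show (σ ≫ pullback.fst f.left g.left) ≫ f.left = g.left
    rw [Category.assoc, pullback.condition, ← Category.assoc, hσ, Category.id_comp]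
  · show (σ ≫ pullback.fst f.left g.left) (IsLocalRing.closedPoint K) ∈ O
    rw [Scheme.Hom.comp_apply, pointOfClosedPoint_apply]
    exact hqU

variable {S : Scheme.{u}} [IsLocallyNoetherian S] (G : Over S) [GrpObj G] [LocallyOfFiniteType G.hom]

/-- an open power map is surjective on each neutral component -/
theorem exists_root [IsCommMonObj G] {n : ℕ} (hn : IsOpenMap ((𝟙 G : G ⟶ G) ^ n).left)
    {x : G.left} (hx : x ∈ SGA3x.neutralSet G) :
    ∃ b : G.left, b ∈ SGA3x.neutralSet G ∧ ((𝟙 G : G ⟶ G) ^ n).left b = x := by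
  let s := G.hom x
  let H := Red.bc (S.fromSpecResidueField s) G
  haveI : LocallyOfFiniteType H.hom := inferInstanceAs (LocallyOfFiniteType (pullback.snd G.hom (S.fromSpecResidueField s)))
  haveI : IsLocallyNoetherian H.left := LocallyOfFiniteType.isLocallyNoetherian H.hom
  have hopenC : IsOpen (connectedComponent (GrpSchField.e H)) := by
    rw [GrpSchField.connectedComponent_eq_unitComp]; exact HomogSep.isOpen_unitComp
  obtain ⟨O₀, hO₀, hO₀'⟩ := (G.hom.fiberι s).isEmbedding.isInducing.isOpen_iff.mp hopenC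
  have hO : ∀ z, G.hom z = s → (z ∈ O₀ ↔ z ∈ X0 G.hom (e1 G) s) := fun z hz => by
    obtain ⟨z', rfl⟩ : z ∈ Set.range (G.hom.fiberι s) := (G.hom.range_fiberι s).ge hz
    exact (Set.ext_iff.mp hO₀' z').trans (Set.ext_iff.mp (preimage_X0 G s) z').symm
  let O : G.left.Opens := ⟨O₀, hO₀⟩
  let A : G.left.Opens := ⟨((𝟙 G : G ⟶ G) ^ n).left '' O₀, hn _ hO₀⟩
  have he : GrpSchField.e H ∈ (G.hom.fiberι s) ⁻¹ᵁ A := by
    refine ⟨e1 G s, (hO _ ?_).mpr (mem_X0 (e1_w G) s), ?_⟩
    · rw [← Scheme.Hom.comp_apply, e1_w]; rfl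
    · refine Eq.trans ?_ (fiberι_e G s).symm
      rw [show e1 G s = (1 : 𝟙_ (Over S) ⟶ G).left s from (one_left_apply G (T := 𝟙_ (Over S)) s).symm,
        ← pow_left_eq, one_pow]
  obtain ⟨z, hz, ⟨a', ha', ha⟩, ⟨b', hb', hb⟩⟩ := exists_mul_fibre G hx _ he
  let UU : Over S := Over.mk (O.ι ≫ G.hom)
  let j : UU ⟶ G := Over.homMk O.ι rfl
  let k : UU ⟶ G := j ≫ (𝟙 G : G ⟶ G) ^ n
  have hmem : ∀ (w : G.left) (w' : ↥H.left), w' ∈ (G.hom.fiberι s) ⁻¹ᵁ A → G.hom.fiberι s w' = w →
      w ∈ Set.range k.left := by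
    rintro w w' ⟨o, ho, heq⟩ rfl
    exact ⟨(⟨o, ho⟩ : O), (left_apply j _ _).trans heq⟩
  obtain ⟨w, hw⟩ : z ∈ Set.range (k ⊗ₘ k).left := by
    rw [range_tensorHom']
    exact ⟨hmem _ a' ha' ha, hmem _ b' hb' hb⟩
  let v := (j ⊗ₘ j).left w
  have hmul : (j ⊗ₘ j) ≫ μ[G] ≫ (𝟙 G : G ⟶ G) ^ n = (k ⊗ₘ k) ≫ μ[G] := by
    have h1 : μ[G] ≫ (𝟙 G : G ⟶ G) ^ n = (fst G G ≫ (𝟙 G : G ⟶ G) ^ n) * (snd G G ≫ (𝟙 G : G ⟶ G) ^ n) := by
      rw [comp_pow, comp_pow, comp_pow, Category.comp_id, Category.comp_id, Category.comp_id, ← mul_pow,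
        Hom.mul_def, lift_fst_snd, Category.id_comp]
    rw [h1, comp_mul, tensorHom_fst_assoc, tensorHom_snd_assoc, Hom.mul_def]
    congr 1
  have hvn : ((𝟙 G : G ⟶ G) ^ n).left (μ[G].left v) = x := by
    rw [← left_apply, ← left_apply, hmul, left_apply, hw, hz]
  have hs : G.hom (μ[G].left v) = s := by
    rw [← pow_hom G n, hvn]
  refine ⟨μ[G].left v, mul_mem G ?_ ?_, hvn⟩
  · have hf : G.hom ((fst G G).left v) = s := by
      rw [← hs, hom_apply G μ[G] v, hom_apply G (fst G G) v]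
    refine mem_of_mem_X0 G ((hO _ hf).mp ?_)
    show (fst G G).left ((j ⊗ₘ j).left w) ∈ O₀
    rw [← left_apply, tensorHom_fst, left_apply]
    exact ((fst UU UU).left w).2
  · have hf : G.hom ((snd G G).left v) = s := by
      rw [← hs, hom_apply G μ[G] v, hom_apply G (snd G G) v]
    refine mem_of_mem_X0 G ((hO _ hf).mp ?_)
    show (snd G G).left ((j ⊗ₘ j).left w) ∈ O₀
    rw [← left_apply, tensorHom_snd, left_apply]
    exact ((snd UU UU).left w).2

/-- if the powers of a prime exponent are open maps, that prime does not occur as the order of a generization -/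
theorem mem_of_pow_mem [IsCommMonObj G] {q : ℕ} (hq : q.Prime)
    (hopen : ∀ k : ℕ, IsOpenMap ((𝟙 G : G ⟶ G) ^ (q ^ k)).left) {x y : G.left} (h : y ⤳ x)
    (hx : x ∈ SGA3x.neutralSet G) (hy : ((𝟙 G : G ⟶ G) ^ q).left y ∈ SGA3x.neutralSet G) :
    y ∈ SGA3x.neutralSet G := by
  obtain ⟨V, hV, hsub⟩ := exists_compact_open_nhds (isCompact_X0 G (G.hom x))
  obtain ⟨K, _, _, t, g, hg⟩ := alg_point G y
  obtain ⟨N, hN⟩ := exists_pow_mem_bound G t V hV
  set k := N + 1
  obtain ⟨b, hb, hbx⟩ := exists_root G (hopen k) hx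
  let f : G ⟶ G := (𝟙 G : G ⟶ G) ^ (q ^ k)
  haveI : LocallyOfFiniteType (f.left ≫ G.hom) := by rw [Over.w f]; infer_instance
  haveI : LocallyOfFiniteType f.left := locallyOfFiniteType_of_comp f.left G.hom
  let O : G.left.Opens := ⟨⋂ m ∈ Finset.range (N + 2), ((𝟙 G : G ⟶ G) ^ m).left ⁻¹' V,
    isOpen_biInter_finset fun m _ => V.isOpen.preimage ((𝟙 G : G ⟶ G) ^ m).left.continuous⟩
  have hbO : b ∈ O := Set.mem_iInter₂.mpr fun m _ => hsub (by
    have h1 := (mem_iff G).mp (pow_mem_of_mem G hb m)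
    rw [pow_hom] at h1
    rwa [← hbx, pow_hom])
  -- the image of a neighbourhood of `b` contains `y`
  obtain ⟨z, hzO, hzy⟩ := h.mem_open (hopen k _ O.isOpen) ⟨b, hbO, hbx⟩
  obtain ⟨a, ha, haO⟩ := exists_lift_point f g O hzO (hzy.trans hg.symm)
  obtain ⟨d, hd, hdN, hdmem⟩ := hN a fun m hm _ => by
    rw [pow_left_eq]
    exact Set.mem_iInter₂.mp haO m (Finset.mem_range.mpr (by omega))
  have hga : g = a ^ (q ^ k) := by rw [← ha, comp_pow, Category.comp_id]
  have h2 : (a ^ (q ^ (k + 1))).left (IsLocalRing.closedPoint K) ∈ SGA3x.neutralSet G := by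
    rw [pow_succ, pow_mul, ← hga, pow_left_eq, hg]
    exact hy
  obtain ⟨j, hj, hjd⟩ := (Nat.dvd_prime_pow hq).mp (Nat.gcd_dvd_right d (q ^ (k + 1)))
  have hjk : j ≤ k := by
    by_contra hcon
    have h3 := Nat.le_of_dvd hd (hjd ▸ Nat.gcd_dvd_left d (q ^ (k + 1)))
    have h4 : k < q ^ j := lt_of_lt_of_le (by omega : k < j) (Nat.lt_pow_self hq.one_lt).le
    omega
  have h5 := pow_mem' G (gcd_mem G hdmem h2) (q ^ (k - j))
  rwa [hjd, ← pow_mul, ← pow_add, Nat.add_sub_cancel' hjk, ← hga, hg] at h5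

theorem isOpen_rho [IsCommMonObj G] (p : ℕ) (hp : p = 1 ∨ p.Prime)
    (hopen : ∀ n : ℕ, 0 < n → Nat.Coprime n p → IsOpenMap ((𝟙 G : G ⟶ G) ^ n).left) :
    IsOpen {x : ↥G.left | ∃ h : ℕ, ((𝟙 G : G ⟶ G) ^ (p ^ h)).left x ∈ SGA3x.neutralSet G} := by
  haveI : IsLocallyNoetherian G.left := LocallyOfFiniteType.isLocallyNoetherian G.hom
  refine isOpen_of_stable ?_ fun x hx => ?_
  · -- coprime orders are trivial on generizations of the neutral set
    have key : ∀ r : ℕ, 0 < r → Nat.Coprime r p → ∀ {x y : G.left}, y ⤳ x → x ∈ SGA3x.neutralSet G →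
        ((𝟙 G : G ⟶ G) ^ r).left y ∈ SGA3x.neutralSet G → y ∈ SGA3x.neutralSet G := by
      intro r
      induction r using Nat.strong_induction_on with
      | _ r ih =>
        intro hr hcop x y hyx hx hy
        rcases eq_or_ne r 1 with rfl | h1
        · rwa [pow_one] at hy
        · obtain ⟨q, hq, r', rfl⟩ := Nat.exists_prime_and_dvd h1
          have hr' : 0 < r' := Nat.pos_of_mul_pos_left hr
          refine ih r' (lt_mul_left hr' hq.one_lt) hr' (Nat.Coprime.coprime_mul_left hcop) hyx hx ?_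
          refine mem_of_pow_mem G hq (fun k => hopen _ (pow_pos hq.pos k)
            ((Nat.Coprime.coprime_mul_right hcop).pow_left k))
            (hyx.map ((𝟙 G : G ⟶ G) ^ r').left.continuous) (pow_mem_of_mem G hx r') ?_
          rwa [pow_pow', mul_comm r']
    rintro a b hba ⟨i, hi⟩
    have hspec := hba.map ((𝟙 G : G ⟶ G) ^ (p ^ i)).left.continuous
    obtain ⟨d, hd, hd'⟩ := exists_pow_mem_of_specializes G hspec hi
    obtain ⟨e, r, hr, rfl⟩ : ∃ e r, Nat.Coprime r p ∧ d = p ^ e * r := by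
      rcases hp with rfl | hp
      · exact ⟨0, d, Nat.coprime_one_right d, by simp⟩
      · obtain ⟨e, r, hr, hd⟩ := Nat.exists_eq_pow_mul_and_not_dvd hd.ne' p hp.ne_one
        exact ⟨e, r, (hp.coprime_iff_not_dvd.mpr hr).symm, hd⟩
    refine ⟨i + e, key r (Nat.pos_of_mul_pos_left hd) hr
      (hba.map ((𝟙 G : G ⟶ G) ^ (p ^ (i + e))).left.continuous) ?_ ?_⟩
    · rw [pow_add p, ← pow_pow']
      exact pow_mem_of_mem G hi _
    · rw [pow_pow', pow_add p, Nat.mul_assoc, ← pow_pow']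
      exact hd'
  · obtain ⟨i, hi⟩ := hx
    obtain ⟨W, hW, hxW, -⟩ := exists_isAffineOpen_mem_and_subset (U := (⊤ : G.left.Opens)) (x := x) trivial
    haveI : IsAffine (W : Scheme.{u}) := hW
    haveI : LocallyOfFinitePresentation G.hom := LocallyOfFinitePresentation.iff_locallyOfFiniteType.mpr inferInstance
    haveI : QuasiSeparated G.hom := QuasiSeparated.of_comp G.hom (terminal.from S)
    have hc := (isLocallyConstructible_preimage W.ι
      (isLocallyConstructible_preimage ((𝟙 G : G ⟶ G) ^ (p ^ i)).left (isLocallyConstructible_qs G))).isConstructible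
    obtain ⟨U, hU, hxU, hsub⟩ := (GrpSchField.exists_open_of_mem_constructible hc ⟨x, hxW⟩).1 hi
    refine ⟨W.ι '' U, W.ι.isOpenEmbedding.isOpenMap _ hU, ⟨_, hxU, rfl⟩, ?_⟩
    rintro _ ⟨⟨u, hu, rfl⟩, hucl⟩
    refine ⟨i, hsub ⟨hu, ?_⟩⟩
    rw [W.ι.isEmbedding.isInducing.closure_eq_preimage_closure_image, Set.mem_preimage, Set.image_singleton]
    exact hucl

end Groth.Agent.NeutralSet
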