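import Groth.Agent.NeutralSet.Subgroup
import Groth.Agent.GeomUnib.SectionOpenGeneral
import Groth.Agent.GeomUnib.SectionDimConst
import Groth.Agent.GeomUnib.SectionUnivOpen
import Groth.Agent.UnitProd.SmoothReduced
import Groth.Agent.FibrewiseCrit.Pointwise

/-!
The neutral set of a group with smooth fibres of locally constant dimension over a reduced base is open
and smooth; universal openness along the neutral set.
-/

universe u

open CategoryTheory Limits MonoidalCategory CartesianMonoidalCategory MonObj GrpObj AlgebraicGeometry TopologicalSpace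
open Groth.Agent.GeomUnib Groth.Agent.GeomUnib.SectionComp

set_option backward.isDefEq.respectTransparency false
set_option linter.style.haveILetI false

noncomputable section

namespace Groth.Agent.NeutralSet

theorem isReduced_stalk_of_smooth {T T' : Scheme.{u}} (f : T' ⟶ T) [Smooth f] [AlgebraicGeometry.IsReduced T]
    (x : T') : _root_.IsReduced (T'.presheaf.stalk x) := by
  obtain ⟨A, hA, hxA, -⟩ := exists_isAffineOpen_mem_and_subset (x := f x) (U := ⊤) trivial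
  obtain ⟨B, hB, hxB, hBA⟩ := exists_isAffineOpen_mem_and_subset (x := x) (U := f ⁻¹ᵁ A) hxA
  have he : (f.appLE A B hBA).hom.Smooth := HasRingHomProperty.appLE @Smooth f inferInstance ⟨A, hA⟩ ⟨B, hB⟩ hBA
  algebraize [(f.appLE A B hBA).hom]
  have : _root_.IsReduced Γ(T', B) := UnitProd.isReduced_of_smooth Γ(T, A) Γ(T', B)
  let _ := TopCat.Presheaf.algebra_section_stalk T'.presheaf ⟨x, hxB⟩
  have : IsLocalization.AtPrime (T'.presheaf.stalk x) (hB.primeIdealOf ⟨x, hxB⟩).asIdeal :=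
    hB.isLocalization_stalk ⟨x, hxB⟩
  exact isReduced_localizationPreserves (hB.primeIdealOf ⟨x, hxB⟩).asIdeal.primeCompl _ inferInstance

variable {S : Scheme.{u}}

theorem grk_of_smooth_fibre {X : Scheme.{u}} (f : X ⟶ S) (x : X)
    (h : Smooth (pullback.snd f (S.fromSpecResidueField (f x)))) : SectionBC.GRK f x := by
  intro K _ k w hw
  have hk : k (IsLocalRing.closedPoint K) = f x := by
    rw [← hw, Subsingleton.elim (IsLocalRing.closedPoint K) (pullback.snd f k w), ← Scheme.Hom.comp_apply,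
      ← Scheme.Hom.comp_apply, pullback.condition]
  obtain ⟨φ, hφ⟩ := SectionBC.exists_factor k hk
  let m : pullback f k ⟶ pullback f (S.fromSpecResidueField (f x)) :=
    pullback.map _ _ _ _ (𝟙 _) (Spec.map φ) (𝟙 _) (by simp) (by rw [Category.comp_id]; exact hφ)
  have hm : IsPullback m (pullback.snd f k) (pullback.snd f (S.fromSpecResidueField (f x))) (Spec.map φ) := by
    refine IsPullback.of_right ?_ (pullback.lift_snd _ _ _) (IsPullback.of_hasPullback f (S.fromSpecResidueField (f x)))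
    rw [show m ≫ pullback.fst f (S.fromSpecResidueField (f x)) = pullback.fst f k by simp [m], ← hφ]
    exact IsPullback.of_hasPullback f k
  haveI : Smooth (pullback.snd f k) := MorphismProperty.of_isPullback hm h
  exact isReduced_stalk_of_smooth (pullback.snd f k) w

variable (G : Over S) [GrpObj G] [LocallyOfFinitePresentation G.hom]

theorem d0_isLocallyConstant (hdim : IsLocallyConstant (fun s : S => topologicalKrullDim ↥(G.hom.base ⁻¹' {s}))) :
    IsLocallyConstant (fun s : S => d0 G.hom (e1 G) s) := by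
  simpa only [d0_eq] using hdim

theorem flat_and_nhds [IsReduced S] (hfib : ∀ s : S, Smooth (pullback.snd G.hom (S.fromSpecResidueField s)))
    (hdim : IsLocallyConstant (fun s : S => topologicalKrullDim ↥(G.hom.base ⁻¹' {s})))
    {x : G.left} (hx : x ∈ SGA3x.neutralSet G) :
    (G.hom.stalkMap x).hom.Flat ∧ ∃ O : G.left.Opens, x ∈ O ∧ ∀ z ∈ O, z ∈ SGA3x.neutralSet G := by
  obtain ⟨V, hV, hxV, hVc⟩ := (d0_isLocallyConstant G hdim).exists_open (G.hom x)
  obtain ⟨hfl, O, hxO, hO⟩ := SectionBC.flat_and_nhds_of_const (e1_w G) (fun y => geomIrredAt G y)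
    (W := ⟨V, hV⟩) (fun a ha b hb => (hVc a ha).trans (hVc b hb).symm) hxV ((mem_iff G).mp hx)
    (grk_of_smooth_fibre G.hom x (hfib _))
  exact ⟨hfl, O, hxO, fun z hz => mem_of_mem_X0 G (hO z hz)⟩

theorem smooth_main [IsReduced S] (hfib : ∀ s : S, Smooth (pullback.snd G.hom (S.fromSpecResidueField s)))
    (hdim : IsLocallyConstant (fun s : S => topologicalKrullDim ↥(G.hom.base ⁻¹' {s}))) :
    IsOpen (SGA3x.neutralSet G) ∧
    (∃ (G0 : Over S) (_ : GrpObj G0) (i : G0 ⟶ G), IsMonHom i ∧ IsOpenImmersion i.left ∧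
      Set.range i.left.base = SGA3x.neutralSet G ∧ Smooth G0.hom) ∧
    ∃ U : G.left.Opens, Smooth (U.ι ≫ G.hom) ∧ ∀ p : ↥(𝟙_ (Over S)).left, η[G].left.base p ∈ U := by
  have hopen : IsOpen (SGA3x.neutralSet G) := isOpen_iff_forall_mem_open.mpr fun x hx => by
    obtain ⟨-, O, hxO, hO⟩ := flat_and_nhds G hfib hdim hx
    exact ⟨O, hO, O.isOpen, hxO⟩
  have hsm : ∀ x ∈ SGA3x.neutralSet G, x ∈ G.hom.smoothLocus := by
    intro x hx
    haveI := hfib (G.hom x)
    haveI : Smooth (G.hom.fiberToSpecResidueField (G.hom x)) := hfib (G.hom x)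
    refine FibrewiseCrit.mem_smoothLocus_of_flat_of_fibre G.hom x (flat_and_nhds G hfib hdim hx).1 (G.hom x)
      (G.hom.asFiber x) (G.hom.fiberι_asFiber x) ?_
    rw [Scheme.Hom.smoothLocus_eq_top]
    trivial
  obtain ⟨G0, I, i, hi, hoi, hr, -⟩ := exists_subgroup G hopen
  refine ⟨hopen, ⟨G0, I, i, hi, hoi, hr, ?_⟩, ⟨_, hopen⟩, ?_, unit_mem G⟩
  · rw [← Over.w i]
    exact FibrewiseCrit.smooth_comp_of_forall_mem i.left G.hom fun w => hsm _ (hr.le ⟨w, rfl⟩)
  · exact FibrewiseCrit.smooth_comp_of_forall_mem (Scheme.Opens.ι ⟨_, hopen⟩) G.hom fun w => hsm _ w.2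

theorem univOpen_iff (s : S) :
    ((∀ x ∈ (SGA3x.neutralSet G ∩ G.hom.base ⁻¹' {s}), EGA43.IsUnivOpenAt G.hom x) ↔
      ∃ W : G.left.Opens, (∀ p : ↥(𝟙_ (Over S)).left, (𝟙_ (Over S)).hom.base p = s → η[G].left.base p ∈ W) ∧
        ∀ x ∈ (SGA3x.neutralSet G ∩ G.hom.base ⁻¹' {s}), x ∈ W → EGA43.IsUnivOpenAt G.hom x) ∧
    ((∀ x ∈ (SGA3x.neutralSet G ∩ G.hom.base ⁻¹' {s}), EGA43.IsUnivOpenAt G.hom x) ↔
      ∃ U : Set S, U ∈ nhds s ∧ ∀ t ∈ U, topologicalKrullDim ↥(G.hom.base ⁻¹' {t}) = topologicalKrullDim ↥(G.hom.base ⁻¹' {s})) := by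
  have hirr : GeomIrred G.hom (e1 G) := fun y => geomIrredAt G y
  have h1 : (∃ U : Set S, U ∈ nhds s ∧ ∀ t ∈ U, topologicalKrullDim ↥(G.hom.base ⁻¹' {t}) = topologicalKrullDim ↥(G.hom.base ⁻¹' {s})) →
      ∀ x ∈ (SGA3x.neutralSet G ∩ G.hom.base ⁻¹' {s}), EGA43.IsUnivOpenAt G.hom x := by
    rintro ⟨U, hU, hUc⟩ x ⟨hx, rfl⟩
    refine SectionBC.isUnivOpenAt_of_fibreDimAt_le (e1_w G) ((mem_iff G).mp hx) (geomIrredAt G _) fun y hy => ?_
    obtain ⟨O, hOU, hO, hxO⟩ := mem_nhds_iff.mp hU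
    rw [fibreDimAt_section_at (e1_w G) (geomIrredAt G y), d0_eq, d0_eq, hUc y (hOU (hy.mem_open hO hxO))]
  have h2 : (∃ W : G.left.Opens, (∀ p : ↥(𝟙_ (Over S)).left, (𝟙_ (Over S)).hom.base p = s → η[G].left.base p ∈ W) ∧
      ∀ x ∈ (SGA3x.neutralSet G ∩ G.hom.base ⁻¹' {s}), x ∈ W → EGA43.IsUnivOpenAt G.hom x) →
      ∃ U : Set S, U ∈ nhds s ∧ ∀ t ∈ U, topologicalKrullDim ↥(G.hom.base ⁻¹' {t}) = topologicalKrullDim ↥(G.hom.base ⁻¹' {s}) := by
    rintro ⟨W, hW1, hW2⟩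
    obtain ⟨V, hV, hVc⟩ := SectionBC.exists_nhds_d0_eq_of_forall (e1_w G) hirr s fun y hy =>
      SectionBC.d0_le_of_dim_eq_maximal (e1_w G) hirr (fun ξ hξ hcl => hW2 ξ
        ⟨mem_of_mem_X0 G hξ, apply_of_mem_X0 (f := G.hom) hξ⟩
        ((specializes_iff_mem_closure.mpr (hcl (mem_X0 (e1_w G) s))).mem_open W.isOpen (hW1 s rfl)))
        (fun y' _ _ => by rw [FibreDimNhds.dim_fibre_eq, d0_eq]) hy
    exact ⟨V, hV, fun t ht => by rw [← d0_eq, ← d0_eq]; exact hVc t ht⟩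
  refine ⟨⟨fun h => ⟨⊤, fun _ _ => trivial, fun x hx _ => h x hx⟩, fun h => h1 (h2 h)⟩,
    ⟨fun h => h2 ⟨⊤, fun _ _ => trivial, fun x hx _ => h x hx⟩, h1⟩⟩

end Groth.Agent.NeutralSet
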