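import Groth.Agent.NeutralSet.Basic
import Groth.Agent.Transporter.Subgroup
import Groth.Agent.HomogSep.Conn

/-!
The neutral set under base change and under the group law; the open subgroup it carries.
-/

universe u

open CategoryTheory Limits MonoidalCategory CartesianMonoidalCategory MonObj GrpObj AlgebraicGeometry TopologicalSpace
open Groth.Agent.GeomUnib Groth.Agent.GeomUnib.SectionComp

set_option backward.isDefEq.respectTransparency false
set_option linter.style.haveILetI false

noncomputable section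

namespace Groth.Agent.NeutralSet

variable {S : Scheme.{u}} (G : Over S) [GrpObj G]

theorem bc_eq {S' : Scheme.{u}} (t : S' ⟶ S) :
    SGA3x.neutralSet (Red.bc t G) = (pullback.fst G.hom t) ⁻¹' SGA3x.neutralSet G := by
  ext x
  have h : IsPullback (pullback.fst G.hom t) (Red.bc t G).hom G.hom t := IsPullback.of_hasPullback G.hom t
  have hs : e1 (Red.bc t G) ≫ pullback.fst G.hom t = t ≫ e1 G := SubgroupWeil.one_bc_left (X := G) t
  have hz : G.hom (pullback.fst G.hom t x) = t ((Red.bc t G).hom x) :=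
    ((Scheme.Hom.comp_apply _ _ x).symm.trans (congrArg (fun m => m x) h.w)).trans (Scheme.Hom.comp_apply _ _ x)
  rw [Set.mem_preimage, mem_iff, mem_iff, hz]
  exact ⟨SectionBC.mem_X0_map h hs (e1_w _), SectionBC.mem_X0_of_map h hs (e1_w _) (e1_w G) rfl⟩

/-- the inverse of a point of the neutral set is in the neutral set -/
theorem inv_mem {x : G.left} (hx : x ∈ SGA3x.neutralSet G) : (ι[G]).left x ∈ SGA3x.neutralSet G := by
  rw [mem_iff] at hx
  let s := G.hom x
  have hf : ∀ y, G.hom ((ι[G]).left y) = G.hom y := fun y => by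
    rw [← Scheme.Hom.comp_apply, Over.w (ι[G])]
  have h1 : (ι[G]).left (e1 G s) = e1 G s := by
    rw [← Scheme.Hom.comp_apply]
    show (η[G] ≫ ι[G]).left s = _
    rw [show η[G] ≫ ι[G] = η[G] from GrpObj.one_inv]
    rfl
  refine mem_of_mem_X0 G ((isPreconnected_connectedComponentIn.image _
    (ι[G]).left.continuous.continuousOn).subset_connectedComponentIn ⟨_, mem_X0 (e1_w G) s, h1⟩ ?_ ⟨x, hx, rfl⟩)
  rintro _ ⟨y, hy, rfl⟩
  exact (hf y).trans (apply_of_mem_X0 (f := G.hom) hy)

/-- the neutral set is stable under multiplication -/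
theorem mul_mem {z : (G ⊗ G).left} (h1 : (fst G G).left z ∈ SGA3x.neutralSet G)
    (h2 : (snd G G).left z ∈ SGA3x.neutralSet G) : μ[G].left z ∈ SGA3x.neutralSet G := by
  let y := (snd G G).left z
  let s := G.hom y
  have hf : ∀ w, G.hom (μ[G].left w) = G.hom ((snd G G).left w) := fun w => by
    rw [← Scheme.Hom.comp_apply, ← Scheme.Hom.comp_apply, Over.w μ[G], Over.w (snd G G)]
  obtain ⟨c, hc, -, hspec⟩ := exists_generic G G y
  let σ : G ⟶ G ⊗ G := lift (1 : G ⟶ G) (𝟙 G)
  have hσ2 : (snd G G).left (σ.left y) = y := by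
    rw [← Scheme.Hom.comp_apply, ← Over.comp_left, lift_snd]
    rfl
  have hσ1 : (fst G G).left (σ.left y) ∈ SGA3x.neutralSet G := by
    rw [← Scheme.Hom.comp_apply, ← Over.comp_left, lift_fst, Hom.one_def, Over.comp_left, Scheme.Hom.comp_apply]
    exact unit_mem G _
  have hσμ : μ[G].left (σ.left y) = y := by
    rw [← Scheme.Hom.comp_apply, ← Over.comp_left, ← Hom.mul_def, _root_.one_mul]
    rfl
  have hcs : G.hom (μ[G].left c) = s := by rw [hf, hc]
  have hy : y ∈ X0 G.hom (e1 G) s := (mem_iff G).mp h2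
  have hμc : μ[G].left c ∈ X0 G.hom (e1 G) s := by
    refine mem_X0_of_specializes hcs hy ?_
    rw [← hσμ]
    exact (hspec _ hσ2 hσ1).map μ[G].left.continuous
  refine mem_of_mem_X0 G (mem_X0_of_closure (hf z) ?_)
  exact closure_mono (Set.singleton_subset_iff.mpr hμc)
    ((hspec z rfl h1).map μ[G].left.continuous).mem_closure

/-- an open neutral set underlies a subgroup scheme, quasi-compact over the base -/
theorem exists_subgroup (hW : IsOpen (SGA3x.neutralSet G)) :
    ∃ (G0 : Over S) (_ : GrpObj G0) (i : G0 ⟶ G), IsMonHom i ∧ IsOpenImmersion i.left ∧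
      Set.range i.left = SGA3x.neutralSet G ∧ (LocallyOfFiniteType G0.hom → QuasiCompact G0.hom) := by
  let O : G.left.Opens := ⟨_, hW⟩
  let G0 : Over S := Over.mk (O.ι ≫ G.hom)
  let i : G0 ⟶ G := Over.homMk O.ι
  have hr : Set.range i.left = SGA3x.neutralSet G := O.range_ι
  haveI : IsOpenImmersion i.left := inferInstanceAs (IsOpenImmersion O.ι)
  haveI : Mono i := Over.mono_of_mono_left i
  have factor : ∀ (T : Over S) (f : T ⟶ G), (∀ p, f.left p ∈ SGA3x.neutralSet G) → ∃ c : T ⟶ G0, c ≫ i = f := by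
    intro T f hf
    have h : Set.range f.left ⊆ Set.range O.ι := by rintro _ ⟨p, rfl⟩; rw [O.range_ι]; exact hf p
    exact ⟨Over.homMk (IsOpenImmersion.lift O.ι f.left h) (by
      show IsOpenImmersion.lift O.ι f.left h ≫ O.ι ≫ G.hom = _
      rw [IsOpenImmersion.lift_fac_assoc, Over.w f]), Over.OverMorphism.ext (IsOpenImmersion.lift_fac _ _ _)⟩
  have hmem : ∀ (T : Over S) (a : T ⟶ G0) p, (a ≫ i).left p ∈ SGA3x.neutralSet G := fun T a p => by
    rw [← hr, Over.comp_left, Scheme.Hom.comp_apply]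
    exact ⟨_, rfl⟩
  obtain ⟨I, hI⟩ := Transporter.exists_grpObj_of_closed i
    (factor _ 1 fun p => by
      rw [Hom.one_def, Over.comp_left, Scheme.Hom.comp_apply]
      exact unit_mem G _)
    (fun T a b => factor _ _ fun p => by
      rw [Hom.mul_def, Over.comp_left, Scheme.Hom.comp_apply]
      refine mul_mem G ?_ ?_
      · rw [← Scheme.Hom.comp_apply, ← Over.comp_left, lift_fst]; exact hmem T a p
      · rw [← Scheme.Hom.comp_apply, ← Over.comp_left, lift_snd]; exact hmem T b p)
    (fun T a => factor _ _ fun p => by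
      rw [Hom.inv_def, Over.comp_left, Scheme.Hom.comp_apply]
      exact inv_mem G (hmem T a p))
  letI := I
  refine ⟨G0, I, i, hI, inferInstance, hr, fun _ => HomogSep.quasiCompact_of_connected_fibres G0 fun s => ?_⟩
  have him : i.left '' (G0.hom ⁻¹' {s}) = X0 G.hom (e1 G) s := by
    ext x
    constructor
    · rintro ⟨p, hp, rfl⟩
      have : i.left p ∈ SGA3x.neutralSet G := hr.le ⟨p, rfl⟩
      rw [mem_iff] at this
      rwa [show G.hom (i.left p) = s by rw [← Scheme.Hom.comp_apply, Over.w i]; exact hp] at this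
    · intro hx
      obtain ⟨p, rfl⟩ : x ∈ Set.range i.left := hr.ge (mem_of_mem_X0 G hx)
      refine ⟨p, ?_, rfl⟩
      show G0.hom p = s
      rw [← Over.w i, Scheme.Hom.comp_apply]
      exact apply_of_mem_X0 (f := G.hom) hx
  have hc : _root_.IsConnected (i.left '' (G0.hom ⁻¹' {s})) :=
    him ▸ ⟨⟨_, mem_X0 (e1_w G) s⟩, isPreconnected_connectedComponentIn⟩
  exact ⟨Set.image_nonempty.mp hc.1, i.left.isEmbedding.isInducing.isPreconnected_image.mp hc.2⟩

end Groth.Agent.NeutralSet
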