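import Groth.Agent.NeutralSet.Constr
import Groth.Agent.NeutralSet.Open
import Mathlib.AlgebraicGeometry.AlgClosed.Basic

/-!
# Torsion modulo the neutral components

A point all of whose powers stay in a quasi-compact open is torsion modulo the neutral component of
its fibre, so the torsion set is stable under generization.
-/

set_option autoImplicit false
set_option backward.isDefEq.respectTransparency false
set_option linter.style.haveILetI false
universe u
open CategoryTheory CategoryTheory.Limits MonoidalCategory CartesianMonoidalCategory MonObj GrpObj AlgebraicGeometry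
open TopologicalSpace Groth.Agent.FibreDim Groth.Agent.GeomUnib Groth.Agent.GeomUnib.SectionComp

noncomputable section

namespace Groth.Agent.NeutralSet

variable {S : Scheme.{u}} (G : Over S) [GrpObj G]

theorem left_apply {A B C : Over S} (a : A ⟶ B) (b : B ⟶ C) (x : A.left) : (a ≫ b).left x = b.left (a.left x) := by
  rw [Over.comp_left, Scheme.Hom.comp_apply]

theorem one_left_apply {T : Over S} (x : T.left) : (1 : T ⟶ G).left x = e1 G (T.hom x) := by
  rw [Hom.one_def, Over.comp_left, Scheme.Hom.comp_apply, Over.toUnit_left]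
  rfl

omit [GrpObj G] in
theorem hom_apply {T : Over S} (a : T ⟶ G) (x : T.left) : G.hom (a.left x) = T.hom x := by
  rw [← Scheme.Hom.comp_apply, Over.w a]

/-- the `T`-valued points landing in the neutral set at `x` form a subgroup -/
def atPoint {T : Over S} (x : T.left) : Subgroup (T ⟶ G) where
  carrier := {a : T ⟶ G | a.left x ∈ SGA3x.neutralSet G}
  one_mem' := by
    show (1 : T ⟶ G).left x ∈ SGA3x.neutralSet G
    rw [one_left_apply]
    exact unit_mem G _
  mul_mem' := fun {a b} ha hb => by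
    show (a * b).left x ∈ SGA3x.neutralSet G
    rw [Hom.mul_def, left_apply]
    refine mul_mem G ?_ ?_
    · rwa [← left_apply, lift_fst]
    · rwa [← left_apply, lift_snd]
  inv_mem' := fun {a} ha => by
    show (a⁻¹).left x ∈ SGA3x.neutralSet G
    rw [Hom.inv_def, left_apply]
    exact inv_mem G ha

theorem mem_atPoint {T : Over S} {x : T.left} {a : T ⟶ G} :
    a ∈ atPoint G x ↔ a.left x ∈ SGA3x.neutralSet G := Iff.rfl

theorem pow_mem' {T : Over S} {x : T.left} {a : T ⟶ G} (h : a.left x ∈ SGA3x.neutralSet G) (m : ℕ) :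
    (a ^ m).left x ∈ SGA3x.neutralSet G := (atPoint G x).pow_mem h m

theorem gcd_mem {T : Over S} {x : T.left} {a : T ⟶ G} {m n : ℕ}
    (hm : (a ^ m).left x ∈ SGA3x.neutralSet G) (hn : (a ^ n).left x ∈ SGA3x.neutralSet G) :
    (a ^ Nat.gcd m n).left x ∈ SGA3x.neutralSet G := by
  rw [← mem_atPoint, ← zpow_natCast, Nat.gcd_eq_gcd_ab, zpow_add, zpow_mul, zpow_mul, zpow_natCast, zpow_natCast]
  exact (atPoint G x).mul_mem ((atPoint G x).zpow_mem hm _) ((atPoint G x).zpow_mem hn _)

theorem lift_one_left (T : Over S) : (lift (1 : T ⟶ G) (𝟙 T)).left = eT G T := by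
  refine pullback.hom_ext ?_ ?_
  · rw [eT, pullback.lift_fst]
    refine (congrArg Over.Hom.left (lift_fst (1 : T ⟶ G) (𝟙 T))).trans ?_
    rw [Hom.one_def, Over.comp_left, Over.toUnit_left]
  · rw [eT, pullback.lift_snd]
    exact congrArg Over.Hom.left (lift_snd (1 : T ⟶ G) (𝟙 T))

/-- two points of `T` in one component of `G ⊗ T` differ by a point of the neutral set -/
theorem div_mem {T : Over S} [Subsingleton T.left] (p q : T ⟶ G) (x : T.left)
    (h : connectedComponent ((lift p (𝟙 T)).left x) = connectedComponent ((lift q (𝟙 T)).left x)) :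
    (q * p⁻¹).left x ∈ SGA3x.neutralSet G := by
  let τ : G ⊗ T ⟶ G ⊗ T := lift (fst G T * (snd G T ≫ p⁻¹)) (snd G T)
  have hτ : ∀ r : T ⟶ G, lift r (𝟙 T) ≫ τ = lift (r * p⁻¹) (𝟙 T) := fun r => by
    apply CartesianMonoidalCategory.hom_ext
    · simp [τ, comp_mul]
    · simp [τ]
  have hC := (isPreconnected_connectedComponent (x := (lift p (𝟙 T)).left x)).image τ.left
    τ.left.continuous.continuousOn
  have hp : (lift (1 : T ⟶ G) (𝟙 T)).left x ∈ τ.left '' connectedComponent ((lift p (𝟙 T)).left x) :=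
    ⟨_, mem_connectedComponent, by rw [← left_apply, hτ, mul_inv_cancel]⟩
  have hq : (lift (q * p⁻¹) (𝟙 T)).left x ∈ τ.left '' connectedComponent ((lift p (𝟙 T)).left x) :=
    ⟨_, h.symm ▸ mem_connectedComponent, by rw [← left_apply, hτ]⟩
  have hmem : (fst G T).left ((lift (q * p⁻¹) (𝟙 T)).left x) ∈ SGA3x.neutralSet G := by
    rw [fst_mem_iff]
    refine isPreconnected_connectedComponent.subset_connectedComponentIn mem_connectedComponent
      (fun z _ => Subsingleton.elim _ _) ?_
    refine hC.subset_connectedComponent (x := eT G T _) ?_ hq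
    convert hp using 1
    rw [← lift_one_left]
    exact congrArg _ (Subsingleton.elim _ _)
  rwa [← left_apply, lift_fst] at hmem

/-- powers of a point staying in a quasi-compact open are torsion modulo the neutral set, with uniform bound -/
theorem exists_pow_mem_bound [QuasiSeparatedSpace ↥S] [LocallyOfFiniteType G.hom] {K : Type u} [Field K]
    (t : Spec (CommRingCat.of K) ⟶ S) (V : G.left.Opens) (hV : IsCompact (V : Set G.left)) :
    ∃ N : ℕ, ∀ a : Over.mk t ⟶ G,
      (∀ m ≤ N + 1, 0 < m → (a ^ m).left (IsLocalRing.closedPoint K) ∈ V) →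
      ∃ d, 0 < d ∧ d ≤ N + 1 ∧ (a ^ d).left (IsLocalRing.closedPoint K) ∈ SGA3x.neutralSet G := by
  let W : (G ⊗ Over.mk t).left.Opens := (fst G (Over.mk t)).left ⁻¹ᵁ V
  haveI : LocallyOfFiniteType (snd G (Over.mk t)).left := inferInstanceAs (LocallyOfFiniteType (pullback.snd G.hom t))
  haveI : IsLocallyNoetherian (Over.mk t).left := inferInstanceAs (IsLocallyNoetherian (Spec (CommRingCat.of K)))
  haveI : IsLocallyNoetherian (G ⊗ Over.mk t).left := LocallyOfFiniteType.isLocallyNoetherian (snd G (Over.mk t)).left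
  have hW : IsCompact (W : Set (G ⊗ Over.mk t).left) := by
    haveI : QuasiCompact t := quasiCompact_of_compactSpace t
    exact QuasiCompact.isCompact_preimage (f := pullback.fst G.hom t) _ V.isOpen hV
  haveI : CompactSpace (W : Scheme.{u}) := isCompact_iff_compactSpace.mp hW
  haveI : IsNoetherian (W : Scheme.{u}) := {}
  haveI : Finite (_root_.ConnectedComponents (W : Scheme.{u})) := by
    have hfin : (irreducibleComponents (W : Scheme.{u})).Finite := NoetherianSpace.finite_irreducibleComponents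
    haveI := hfin.to_subtype
    refine Finite.of_surjective (fun Z : irreducibleComponents (W : Scheme.{u}) => _root_.ConnectedComponents.mk Z.2.1.1.some) ?_
    intro c
    obtain ⟨w, rfl⟩ := _root_.ConnectedComponents.surjective_coe c
    refine ⟨⟨irreducibleComponent w, irreducibleComponent_mem_irreducibleComponents w⟩, ?_⟩
    rw [_root_.ConnectedComponents.coe_eq_coe]
    exact (connectedComponent_eq (irreducibleComponent_subset_connectedComponent
      (Set.Nonempty.some_mem _))).symm
  refine ⟨Nat.card (_root_.ConnectedComponents (W : Scheme.{u})), fun a ha => ?_⟩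
  set x : (Over.mk t).left := IsLocalRing.closedPoint K
  have hmem : ∀ m : Fin (Nat.card (_root_.ConnectedComponents (W : Scheme.{u})) + 1),
      (lift (a ^ (m.1 + 1)) (𝟙 (Over.mk t))).left x ∈ W := fun m => by
    show (fst G (Over.mk t)).left ((lift (a ^ (m.1 + 1)) (𝟙 (Over.mk t))).left x) ∈ V
    rw [← left_apply, lift_fst]
    exact ha _ (by omega) (by omega)
  obtain ⟨i, j, hc, hij⟩ := Function.not_injective_iff.mp (fun hinj :
      Function.Injective (fun m => (_root_.ConnectedComponents.mk ⟨_, hmem m⟩ : _root_.ConnectedComponents ↥(W.toScheme))) => by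
    have := Nat.card_le_card_of_injective _ hinj
    simp at this)
  rw [_root_.ConnectedComponents.coe_eq_coe] at hc
  have hcc : connectedComponent ((lift (a ^ (i.1 + 1)) (𝟙 (Over.mk t))).left x) =
      connectedComponent ((lift (a ^ (j.1 + 1)) (𝟙 (Over.mk t))).left x) := by
    refine (connectedComponent_eq ?_).symm
    exact (W.ι.continuous.image_connectedComponent_subset _) ⟨_, hc ▸ mem_connectedComponent, rfl⟩
  haveI : Subsingleton (Over.mk t).left := inferInstanceAs (Subsingleton (Spec (CommRingCat.of K)))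
  rcases lt_or_gt_of_ne (Fin.val_ne_of_ne hij) with hlt | hlt
  · refine ⟨j.1 - i.1, by omega, by omega, ?_⟩
    have h := div_mem G _ _ x hcc
    rwa [← pow_sub _ (by omega : i.1 + 1 ≤ j.1 + 1), Nat.add_sub_add_right] at h
  · refine ⟨i.1 - j.1, by omega, by omega, ?_⟩
    have h := div_mem G _ _ x hcc.symm
    rwa [← pow_sub _ (by omega : j.1 + 1 ≤ i.1 + 1), Nat.add_sub_add_right] at h

omit [GrpObj G] in
theorem alg_point (y : G.left) : ∃ (K : Type u) (_ : Field K) (_ : IsAlgClosed K) (t : Spec (CommRingCat.of K) ⟶ S)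
    (g : Over.mk t ⟶ G), g.left (IsLocalRing.closedPoint K) = y := by
  let K := AlgebraicClosure (G.left.residueField y)
  let b : Spec (CommRingCat.of K) ⟶ G.left :=
    Spec.map (CommRingCat.ofHom (algebraMap (G.left.residueField y) K)) ≫ G.left.fromSpecResidueField y
  refine ⟨K, inferInstance, inferInstance, b ≫ G.hom, Over.homMk b rfl, ?_⟩
  show b (IsLocalRing.closedPoint K) = y
  simp only [b, Scheme.Hom.comp_apply]
  exact G.left.fromSpecResidueField_apply y _

theorem pow_left_eq {T : Over S} (g : T ⟶ G) (n : ℕ) (x : T.left) :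
    (g ^ n).left x = ((𝟙 G : G ⟶ G) ^ n).left (g.left x) := by
  rw [← left_apply, comp_pow, Category.comp_id]

theorem pow_hom (n : ℕ) (x : G.left) : G.hom (((𝟙 G : G ⟶ G) ^ n).left x) = G.hom x := hom_apply G _ x

theorem pow_pow' (m n : ℕ) (x : G.left) :
    ((𝟙 G : G ⟶ G) ^ n).left (((𝟙 G : G ⟶ G) ^ m).left x) = ((𝟙 G : G ⟶ G) ^ (m * n)).left x := by
  rw [← pow_left_eq, pow_mul]

theorem pow_mem_of_mem {x : G.left} (hx : x ∈ SGA3x.neutralSet G) (m : ℕ) :
    ((𝟙 G : G ⟶ G) ^ m).left x ∈ SGA3x.neutralSet G := by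
  refine pow_mem' G (a := 𝟙 G) ?_ m
  exact hx

theorem isCompact_X0 (s : S) : IsCompact (X0 G.hom (e1 G) s) := by
  have h : X0 G.hom (e1 G) s = G.hom.fiberι s ''
      GrpSchField.unitComp (Red.bc (S.fromSpecResidueField s) G) := by
    rw [← GrpSchField.connectedComponent_eq_unitComp, ← preimage_X0, Set.image_preimage_eq_of_subset]
    rintro x hx
    exact (G.hom.range_fiberι s).ge (apply_of_mem_X0 (f := G.hom) hx)
  rw [h]
  exact IsCompact.image (GrpSchField.isCompact_unitComp (Red.bc (S.fromSpecResidueField s) G)) (G.hom.fiberι s).continuous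

/-- generizations of points of the neutral set are torsion modulo the neutral set -/
theorem exists_pow_mem_of_specializes [QuasiSeparatedSpace ↥S] [LocallyOfFiniteType G.hom] {x y : G.left}
    (h : y ⤳ x) (hx : x ∈ SGA3x.neutralSet G) :
    ∃ d, 0 < d ∧ ((𝟙 G : G ⟶ G) ^ d).left y ∈ SGA3x.neutralSet G := by
  obtain ⟨V, hV, hsub⟩ := exists_compact_open_nhds (isCompact_X0 G (G.hom x))
  obtain ⟨K, _, _, t, g, hg⟩ := alg_point G y
  obtain ⟨N, hN⟩ := exists_pow_mem_bound G t V hV
  obtain ⟨d, hd, -, hmem⟩ := hN g fun m _ _ => by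
    rw [pow_left_eq, hg]
    refine (h.map ((𝟙 G : G ⟶ G) ^ m).left.continuous).mem_open V.isOpen (hsub ?_)
    rw [← pow_hom G m x]
    exact (mem_iff G).mp (pow_mem_of_mem G hx m)
  exact ⟨d, hd, by rwa [pow_left_eq, hg] at hmem⟩

/-- a set stable under specialization and generization in a locally noetherian scheme is closed -/
theorem isClosed_of_stable {X : Scheme.{u}} [IsLocallyNoetherian X] {E : Set X} (hs : StableUnderSpecialization E)
    (hg : StableUnderGeneralization E) : IsClosed E := by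
  refine isOpen_compl_iff.mp (isOpen_iff_forall_mem_open.mpr fun x hx => ?_)
  obtain ⟨W, hW, hxW, -⟩ := exists_isAffineOpen_mem_and_subset (U := (⊤ : X.Opens)) (x := x) trivial
  haveI : IsAffine (W : Scheme.{u}) := hW
  haveI : IsNoetherian (W : Scheme.{u}) := {}
  have hfin : (irreducibleComponents (W : Scheme.{u})).Finite := NoetherianSpace.finite_irreducibleComponents
  let C : Set (W : Scheme.{u}) := ⋃ Z ∈ {Z ∈ irreducibleComponents (W : Scheme.{u}) | (W.ι '' Z ∩ E).Nonempty}, Z
  have hC : IsClosed C := (hfin.subset fun Z hZ => hZ.1).isClosed_biUnion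
    fun Z hZ => isClosed_of_mem_irreducibleComponents Z hZ.1
  refine ⟨W.ι '' Cᶜ, ?_, W.ι.isOpenEmbedding.isOpenMap _ hC.isOpen_compl, ⟨⟨x, hxW⟩, ?_, rfl⟩⟩
  · rintro _ ⟨z, hz, rfl⟩ hzE
    exact hz (Set.mem_biUnion ⟨irreducibleComponent_mem_irreducibleComponents z,
      _, ⟨z, mem_irreducibleComponent, rfl⟩, hzE⟩ mem_irreducibleComponent)
  · intro hxC
    obtain ⟨Z, ⟨hZ, _, ⟨z, hz, rfl⟩, hzE⟩, hxZ⟩ := Set.mem_iUnion₂.mp hxC
    obtain ⟨c, hc⟩ := QuasiSober.sober hZ.1 (isClosed_of_mem_irreducibleComponents Z hZ)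
    exact hx (hs ((hc.specializes hxZ).map W.ι.continuous) (hg ((hc.specializes hz).map W.ι.continuous) hzE))

theorem isClosed_torsion [IsLocallyNoetherian S] [LocallyOfFiniteType G.hom] (h0 : IsClosed (SGA3x.neutralSet G)) :
    IsClosed {x : ↥G.left | ∃ n : ℕ, 0 < n ∧ ((𝟙 G : G ⟶ G) ^ n).left x ∈ SGA3x.neutralSet G} := by
  haveI : IsLocallyNoetherian G.left := LocallyOfFiniteType.isLocallyNoetherian G.hom
  refine isClosed_of_stable (fun a b h ha => ?_) fun a b h ha => ?_
  · obtain ⟨n, hn, hmem⟩ := ha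
    exact ⟨n, hn, (h.map ((𝟙 G : G ⟶ G) ^ n).left.continuous).mem_closed h0 hmem⟩
  · obtain ⟨n, hn, hmem⟩ := ha
    obtain ⟨d, hd, hd'⟩ := exists_pow_mem_of_specializes G (h.map ((𝟙 G : G ⟶ G) ^ n).left.continuous) hmem
    exact ⟨n * d, Nat.mul_pos hn hd, by rwa [pow_pow'] at hd'⟩

end Groth.Agent.NeutralSet
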