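import Groth.Agent.NeutralSet.Rho

/-!
Torsion, `p`-power torsion and prime-to-`p` torsion sets modulo the neutral components.
-/

set_option autoImplicit false
set_option backward.isDefEq.respectTransparency false
set_option linter.style.haveILetI false
universe u
open CategoryTheory CategoryTheory.Limits MonoidalCategory CartesianMonoidalCategory MonObj GrpObj AlgebraicGeometry
open TopologicalSpace Topology Groth.Agent.FibreDim Groth.Agent.GeomUnib Groth.Agent.GeomUnib.SectionComp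

noncomputable section

namespace Groth.Agent.NeutralSet

variable {S : Scheme.{u}} [IsLocallyNoetherian S] (G : Over S) [GrpObj G] [LocallyOfFiniteType G.hom]

theorem exists_nhd_closure_pow (n : ℕ) {x : G.left} (hx : ((𝟙 G : G ⟶ G) ^ n).left x ∈ SGA3x.neutralSet G) :
    ∃ O : Set G.left, IsOpen O ∧ x ∈ O ∧
      ∀ z ∈ O ∩ closure {x}, ((𝟙 G : G ⟶ G) ^ n).left z ∈ SGA3x.neutralSet G := by
  haveI : IsLocallyNoetherian G.left := LocallyOfFiniteType.isLocallyNoetherian G.hom
  obtain ⟨W, hW, hxW, -⟩ := exists_isAffineOpen_mem_and_subset (U := (⊤ : G.left.Opens)) (x := x) trivial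
  haveI : IsAffine (W : Scheme.{u}) := hW
  haveI : LocallyOfFinitePresentation G.hom := LocallyOfFinitePresentation.iff_locallyOfFiniteType.mpr inferInstance
  haveI : QuasiSeparated G.hom := QuasiSeparated.of_comp G.hom (terminal.from S)
  have hc := (isLocallyConstructible_preimage W.ι
    (isLocallyConstructible_preimage ((𝟙 G : G ⟶ G) ^ n).left (isLocallyConstructible_qs G))).isConstructible
  obtain ⟨U, hU, hxU, hsub⟩ := (GrpSchField.exists_open_of_mem_constructible hc ⟨x, hxW⟩).1 hx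
  refine ⟨W.ι '' U, W.ι.isOpenEmbedding.isOpenMap _ hU, ⟨_, hxU, rfl⟩, ?_⟩
  rintro _ ⟨⟨u, hu, rfl⟩, hucl⟩
  refine hsub ⟨hu, ?_⟩
  rw [W.ι.isEmbedding.isInducing.closure_eq_preimage_closure_image, Set.mem_preimage, Set.image_singleton]
  exact hucl

theorem isOpen_torsion :
    IsOpen {x : ↥G.left | ∃ n : ℕ, 0 < n ∧ ((𝟙 G : G ⟶ G) ^ n).left x ∈ SGA3x.neutralSet G} := by
  haveI : IsLocallyNoetherian G.left := LocallyOfFiniteType.isLocallyNoetherian G.hom
  refine isOpen_of_stable (fun a b h ha => ?_) fun x hx => ?_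
  · obtain ⟨n, hn, hmem⟩ := ha
    obtain ⟨d, hd, hd'⟩ := exists_pow_mem_of_specializes G (h.map ((𝟙 G : G ⟶ G) ^ n).left.continuous) hmem
    exact ⟨n * d, Nat.mul_pos hn hd, by rwa [pow_pow'] at hd'⟩
  · obtain ⟨n, hn, hmem⟩ := hx
    obtain ⟨O, hO, hxO, hsub⟩ := exists_nhd_closure_pow G n hmem
    exact ⟨O, hO, hxO, fun z hz => ⟨n, hn, hsub z hz⟩⟩

/-- with a closed neutral set, the torsion set is killed by one exponent on every affine open -/
theorem exists_torsion_exponent (h0 : IsClosed (SGA3x.neutralSet G)) {W : G.left.Opens} (hW : IsAffineOpen W) :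
    ∃ n : ℕ, 0 < n ∧ ∀ x ∈ W, (∃ m : ℕ, 0 < m ∧ ((𝟙 G : G ⟶ G) ^ m).left x ∈ SGA3x.neutralSet G) →
      ((𝟙 G : G ⟶ G) ^ n).left x ∈ SGA3x.neutralSet G := by
  classical
  haveI : IsLocallyNoetherian G.left := LocallyOfFiniteType.isLocallyNoetherian G.hom
  haveI : IsAffine (W : Scheme.{u}) := hW
  haveI : IsNoetherian (W : Scheme.{u}) := {}
  let E : Set (W : Scheme.{u}) := W.ι ⁻¹' {x | ∃ m : ℕ, 0 < m ∧ ((𝟙 G : G ⟶ G) ^ m).left x ∈ SGA3x.neutralSet G}
  have hE : IsClosed E := (isClosed_torsion G h0).preimage W.ι.continuous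
  haveI : NoetherianSpace ↥E := NoetherianSpace.set _
  haveI : QuasiSober ↥E := hE.isClosedEmbedding_subtypeVal.quasiSober
  have hfin : (irreducibleComponents ↥E).Finite := NoetherianSpace.finite_irreducibleComponents
  haveI := hfin.fintype
  have hc : ∀ Z : irreducibleComponents ↥E, ∃ m : ℕ, 0 < m ∧ ∀ x ∈ Z.1,
      ((𝟙 G : G ⟶ G) ^ m).left (W.ι x.1) ∈ SGA3x.neutralSet G := by
    intro Z
    obtain ⟨c, hc⟩ := QuasiSober.sober Z.2.1 (isClosed_of_mem_irreducibleComponents Z.1 Z.2)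
    obtain ⟨m, hm, hmem⟩ := c.2
    exact ⟨m, hm, fun x hx => ((((hc.specializes hx).map continuous_subtype_val).map W.ι.continuous).map
      ((𝟙 G : G ⟶ G) ^ m).left.continuous).mem_closed h0 hmem⟩
  choose m hm hmem using hc
  refine ⟨∏ Z, m Z, Finset.prod_pos fun Z _ => hm Z, fun x hx hxE => ?_⟩
  let x' : ↥E := ⟨(⟨x, hx⟩ : W), hxE⟩
  let Z : irreducibleComponents ↥E := ⟨_, irreducibleComponent_mem_irreducibleComponents x'⟩
  obtain ⟨r, hr⟩ := Finset.dvd_prod_of_mem m (Finset.mem_univ Z)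
  rw [hr, ← pow_pow']
  exact pow_mem_of_mem G (hmem Z x' mem_irreducibleComponent) r

/-- torsion with exponents allowed pointwise by a predicate stable under divisors -/
theorem isClosed_torsion_pred (h0 : IsClosed (SGA3x.neutralSet G)) (P : ℕ → G.left → Prop)
    (hpos : ∀ m x, P m x → 0 < m) (hdvd : ∀ m d x, P m x → d ∣ m → P d x) (hcl : ∀ d, IsClosed {x | P d x}) :
    IsClosed {x : ↥G.left | ∃ m : ℕ, P m x ∧ ((𝟙 G : G ⟶ G) ^ m).left x ∈ SGA3x.neutralSet G} := by
  haveI : IsLocallyNoetherian G.left := LocallyOfFiniteType.isLocallyNoetherian G.hom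
  refine isOpen_compl_iff.mp (isOpen_iff_forall_mem_open.mpr fun x hx => ?_)
  obtain ⟨W, hW, hxW, -⟩ := exists_isAffineOpen_mem_and_subset (U := (⊤ : G.left.Opens)) (x := x) trivial
  obtain ⟨n, hn, hexp⟩ := exists_torsion_exponent G h0 hW
  let C : Set G.left := ⋃ d ∈ n.divisors, {z | P d z} ∩ ((𝟙 G : G ⟶ G) ^ d).left ⁻¹' SGA3x.neutralSet G
  have hC : IsClosed C := n.divisors.finite_toSet.isClosed_biUnion fun d _ =>
    (hcl d).inter (h0.preimage ((𝟙 G : G ⟶ G) ^ d).left.continuous)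
  refine ⟨W ∩ Cᶜ, ?_, W.isOpen.inter hC.isOpen_compl, hxW, ?_⟩
  · rintro z ⟨hzW, hzC⟩ ⟨m, hm, hmem⟩
    refine hzC (Set.mem_biUnion (Nat.mem_divisors.mpr ⟨Nat.gcd_dvd_right m n, hn.ne'⟩)
      ⟨hdvd m _ z hm (Nat.gcd_dvd_left m n), ?_⟩)
    exact gcd_mem G (a := 𝟙 G) hmem (hexp z hzW ⟨m, hpos m z hm, hmem⟩)
  · intro hxC
    obtain ⟨d, -, hd, hmem⟩ := Set.mem_iUnion₂.mp hxC
    exact hx ⟨d, hd, hmem⟩

theorem cast_eq_zero_of_expChar (R : Type u) [CommRing R] (r : ℕ) [h : ExpChar R r] (h1 : r ≠ 1) : (r : R) = 0 := by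
  cases h with
  | zero => exact absurd rfl h1
  | prime _ => exact CharP.cast_eq_zero R _

omit [IsLocallyNoetherian S] in
theorem isClosed_natCast_eq_zero (q : ℕ) : IsClosed {s : S | (q : S.residueField s) = 0} := by
  have h : {s : S | (q : S.residueField s) = 0} = (S.basicOpen (q : Γ(S, ⊤)) : Set S)ᶜ := by
    ext s
    rw [Set.mem_ofPred_eq, Set.mem_compl_iff, SetLike.mem_coe, S.mem_basicOpen (q : Γ(S, ⊤)) s trivial]
    constructor
    · intro h hu
      have h2 : IsUnit ((IsLocalRing.residue _) ((S.presheaf.germ ⊤ s trivial).hom (q : Γ(S, ⊤)))) := hu.map _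
      rw [map_natCast, map_natCast] at h2
      exact h2.ne_zero h
    · intro h
      rw [map_natCast] at h
      exact (map_natCast (IsLocalRing.residue (S.presheaf.stalk s)) q).symm.trans
        ((IsLocalRing.residue_eq_zero_iff _).mpr h)
  rw [h]
  exact (S.basicOpen (q : Γ(S, ⊤))).isOpen.isClosed_compl

theorem isClosed_rho (h0 : IsClosed (SGA3x.neutralSet G)) (p : S → ℕ)
    (hp : ∀ s : S, ringExpChar (S.residueField s) = p s) :
    IsClosed {x : ↥G.left | ∃ h m : ℕ, m = p (G.hom x) ^ h ∧ ((𝟙 G : G ⟶ G) ^ m).left x ∈ SGA3x.neutralSet G} := by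
  haveI : ∀ s, ExpChar (S.residueField s) (p s) := fun s => hp s ▸ inferInstance
  have hsplit : ∀ s : S, p s = 1 ∨ (p s).Prime := fun s => (expChar_is_prime_or_one (S.residueField s) (p s)).symm
  have h := isClosed_torsion_pred G h0 (fun m x => ∃ h, m = p (G.hom x) ^ h)
    (fun m x ⟨h, hh⟩ => hh ▸ pow_pos (expChar_pos (S.residueField (G.hom x)) _) h)
    (fun m d x ⟨h, hh⟩ hd => by
      rcases hsplit (G.hom x) with h1 | h1
      · rw [h1, one_pow] at hh; rw [hh, Nat.dvd_one] at hd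
        exact ⟨0, by simpa using hd⟩
      · obtain ⟨j, -, hj⟩ := (Nat.dvd_prime_pow h1).mp (hh ▸ hd)
        exact ⟨j, hj⟩) fun d => by
      rcases eq_or_ne d 1 with rfl | hd1
      · convert isClosed_univ
        exact Set.eq_univ_of_forall fun x => ⟨0, by simp⟩
      · obtain ⟨q, hq, hqd⟩ := Nat.exists_prime_and_dvd hd1
        by_cases hpow : ∃ j, d = q ^ j
        · obtain ⟨j, rfl⟩ := hpow
          convert (isClosed_natCast_eq_zero (S := S) q).preimage G.hom.continuous
          ext x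
          simp only [Set.mem_preimage, Set.mem_ofPred_eq]
          constructor
          · rintro ⟨h, hh⟩
            rcases hsplit (G.hom x) with h1 | h1
            · exact absurd (hh.trans (by rw [h1, one_pow])) hd1
            · have hqp : q ∣ p (G.hom x) := hq.dvd_of_dvd_pow (hh ▸ hqd)
              rw [(Nat.prime_dvd_prime_iff_eq hq h1).mp hqp]
              exact cast_eq_zero_of_expChar _ _ h1.ne_one
          · intro hq0
            haveI : CharP (S.residueField (G.hom x)) q := CharP.charP_iff_prime_eq_zero hq |>.mpr hq0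
            haveI : ExpChar (S.residueField (G.hom x)) q := ExpChar.prime hq
            exact ⟨j, by rw [← hp, ringExpChar.eq (S.residueField (G.hom x)) q]⟩
        · convert isClosed_empty
          refine Set.eq_empty_iff_forall_notMem.mpr fun x ⟨h, hh⟩ => hpow ⟨h, ?_⟩
          rcases hsplit (G.hom x) with h1 | h1
          · exact absurd (hh.trans (by rw [h1, one_pow])) hd1
          · rw [(Nat.prime_dvd_prime_iff_eq hq h1).mp (hq.dvd_of_dvd_pow (hh ▸ hqd))]
            exact hh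
  simpa only [exists_and_right, exists_comm (α := ℕ) (β := ℕ)] using h

theorem isClosed_sigma (h0 : IsClosed (SGA3x.neutralSet G)) (p : ℕ) :
    IsClosed {x : ↥G.left | ∃ n : ℕ, 0 < n ∧ Nat.Coprime n p ∧ ((𝟙 G : G ⟶ G) ^ n).left x ∈ SGA3x.neutralSet G} := by
  have h := isClosed_torsion_pred G h0 (fun m _ => 0 < m ∧ Nat.Coprime m p) (fun m _ h => h.1)
    (fun m d _ h hd => ⟨Nat.pos_of_dvd_of_pos hd h.1, h.2.coprime_dvd_left hd⟩)
    (fun d => isClosed_const)
  simpa only [and_assoc] using h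

end Groth.Agent.NeutralSet
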